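import Groth.Agent.Lib.FFDesc.Datum

/-!
# Point calculus for descent data (FFDesc, part 4)

`tr D v x`: the transport of a point `v` of the underlying scheme to the point `x` of the base of
the datum; restriction of descent data along a commutative square.
-/

universe u

open CategoryTheory CategoryTheory.Limits AlgebraicGeometry

namespace Groth.Agent.Lib.FFDesc

variable {X S : Scheme.{u}} {p : X ⟶ S} (D : Desc.SchDD p)

/-- Transport of the point `v` over `x`. -/
noncomputable def tr {T : Scheme.{u}} (v : T ⟶ D.obj.left) (x : T ⟶ X)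
    (h : v ≫ D.obj.hom ≫ p = x ≫ p) : T ⟶ D.obj.left :=
  pullback.lift v x h ≫ act D

@[reassoc]
theorem tr_hom {T : Scheme.{u}} (v : T ⟶ D.obj.left) (x : T ⟶ X)
    (h : v ≫ D.obj.hom ≫ p = x ≫ p) : tr D v x h ≫ D.obj.hom = x := by
  rw [tr, Category.assoc, act_hom, pullback.lift_snd]

theorem tr_congr {T : Scheme.{u}} {v v' : T ⟶ D.obj.left} {x x' : T ⟶ X}
    (h : v ≫ D.obj.hom ≫ p = x ≫ p) (hv : v = v') (hx : x = x') :
    tr D v x h = tr D v' x' (by rw [← hv, ← hx]; exact h) := by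
  subst hv; subst hx; rfl

theorem tr_self {T : Scheme.{u}} (v : T ⟶ D.obj.left) (x : T ⟶ X)
    (hx : v ≫ D.obj.hom = x) : tr D v x (by rw [← hx, Category.assoc]) = v := by
  subst hx
  exact lift_self_act D v

theorem tr_tr {T : Scheme.{u}} (v : T ⟶ D.obj.left) (x₁ x₂ : T ⟶ X)
    (h₁ : v ≫ D.obj.hom ≫ p = x₁ ≫ p) (h₂ : tr D v x₁ h₁ ≫ D.obj.hom ≫ p = x₂ ≫ p) :
    tr D (tr D v x₁ h₁) x₂ h₂ = tr D v x₂
      (by rw [h₁, ← h₂, tr_hom_assoc]) :=
  lift_act_act D v x₁ x₂ h₁ (by rw [← h₂, tr_hom_assoc])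

theorem comp_tr {T T' : Scheme.{u}} (g : T' ⟶ T) (v : T ⟶ D.obj.left) (x : T ⟶ X)
    (h : v ≫ D.obj.hom ≫ p = x ≫ p) :
    g ≫ tr D v x h = tr D (g ≫ v) (g ≫ x) (by simp only [Category.assoc, h]) := by
  rw [tr, tr, ← Category.assoc]
  congr 1
  apply pullback.hom_ext
  · rw [Category.assoc, pullback.lift_fst, pullback.lift_fst]
  · rw [Category.assoc, pullback.lift_snd, pullback.lift_snd]

theorem act_eq_tr : act D = tr D (pr D) (pr₁ D) pullback.condition := by
  have : pullback.lift (pr D) (pr₁ D) pullback.condition = 𝟙 (V₂ D) :=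
    pullback.hom_ext (by simp) (by simp)
  rw [tr, this, Category.id_comp]

theorem φ_eq_tr {T : Scheme.{u}} (x₀ x₁ : T ⟶ X) (h : x₀ ≫ p = x₁ ≫ p)
    (v : Desc.Lifts D.obj x₀) :
    (D.φ x₀ x₁ h v).1 = tr D v.1 x₁ (by rw [← Category.assoc, v.2]; exact h) :=
  φ_eq D x₀ x₁ h v

theorem IsDescended.tr_comp {U : Over S} {q : D.obj.left ⟶ U.left} (H : IsDescended D U q)
    {T : Scheme.{u}} (v : T ⟶ D.obj.left) (x : T ⟶ X) (h : v ≫ D.obj.hom ≫ p = x ≫ p) :
    tr D v x h ≫ q = v ≫ q := by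
  rw [tr, Category.assoc, ← H.inv, pullback.lift_fst_assoc]

section Restrict

variable {X' S' : Scheme.{u}} (p' : X' ⟶ S') (r : X' ⟶ X) (s : S' ⟶ S) (w : p' ≫ s = r ≫ p)

include w in
private theorem aux {T : Scheme.{u}} {x₀ x₁ : T ⟶ X'} (h : x₀ ≫ p' = x₁ ≫ p')
    (v : Desc.Lifts (Over.mk (pullback.snd D.obj.hom r)) x₀) :
    (v.1 ≫ pullback.fst D.obj.hom r) ≫ D.obj.hom ≫ p = (x₁ ≫ r) ≫ p := by
  have hv : v.1 ≫ pullback.snd D.obj.hom r = x₀ := v.2
  rw [Category.assoc, pullback.condition_assoc, reassoc_of% hv, ← w, reassoc_of% h,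
    Category.assoc, w]

/-- The map on points defining the restriction of a descent datum. -/
noncomputable def restrictMap {T : Scheme.{u}} (x₀ x₁ : T ⟶ X') (h : x₀ ≫ p' = x₁ ≫ p')
    (v : Desc.Lifts (Over.mk (pullback.snd D.obj.hom r)) x₀) :
    Desc.Lifts (Over.mk (pullback.snd D.obj.hom r)) x₁ :=
  ⟨pullback.lift (tr D (v.1 ≫ pullback.fst D.obj.hom r) (x₁ ≫ r) (aux D p' r s w h v)) x₁
    (tr_hom _ _ _ _), pullback.lift_snd _ _ _⟩

theorem restrictMap_self {T : Scheme.{u}} (x : T ⟶ X') (h : x ≫ p' = x ≫ p')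
    (v : Desc.Lifts (Over.mk (pullback.snd D.obj.hom r)) x) :
    restrictMap D p' r s w x x h v = v := by
  have hv : v.1 ≫ pullback.snd D.obj.hom r = x := v.2
  apply Subtype.ext
  refine pullback.hom_ext ((pullback.lift_fst _ _ _).trans ?_) ((pullback.lift_snd _ _ _).trans hv.symm)
  exact tr_self D _ _ (by rw [Category.assoc, pullback.condition, reassoc_of% hv])

theorem restrictMap_comp {T : Scheme.{u}} (x₀ x₁ x₂ : T ⟶ X') (h₀₁ : x₀ ≫ p' = x₁ ≫ p')
    (h₁₂ : x₁ ≫ p' = x₂ ≫ p') (v : Desc.Lifts (Over.mk (pullback.snd D.obj.hom r)) x₀) :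
    restrictMap D p' r s w x₁ x₂ h₁₂ (restrictMap D p' r s w x₀ x₁ h₀₁ v) =
      restrictMap D p' r s w x₀ x₂ (h₀₁.trans h₁₂) v := by
  apply Subtype.ext
  refine pullback.hom_ext ?_ ((pullback.lift_snd _ _ _).trans (pullback.lift_snd _ _ _).symm)
  refine (pullback.lift_fst _ _ _).trans (Eq.trans ?_ (pullback.lift_fst _ _ _).symm)
  rw [tr_congr D _ (show (restrictMap D p' r s w x₀ x₁ h₀₁ v).1 ≫ pullback.fst D.obj.hom r = _
    from pullback.lift_fst _ _ _) rfl, tr_tr]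

/-- The restriction of a descent datum along a commutative square. -/
noncomputable def restrict : Desc.SchDD p' where
  obj := Over.mk (pullback.snd D.obj.hom r)
  φ T x₀ x₁ h :=
    { toFun := restrictMap D p' r s w x₀ x₁ h
      invFun := restrictMap D p' r s w x₁ x₀ h.symm
      left_inv := fun v ↦ by rw [restrictMap_comp, restrictMap_self]
      right_inv := fun v ↦ by rw [restrictMap_comp, restrictMap_self] }
  φ_natural T T' g x₀ x₁ h h' v v' hv := by
    refine pullback.hom_ext ?_ ?_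
    · refine (pullback.lift_fst _ _ _).trans (Eq.trans ?_ (Category.assoc _ _ _).symm)
      refine Eq.trans ?_ (congrArg (g ≫ ·) (pullback.lift_fst _ _ _)).symm
      rw [comp_tr]
      exact tr_congr D _ ((congrArg (· ≫ pullback.fst D.obj.hom r) hv).trans (Category.assoc _ _ _))
        (Category.assoc _ _ _)
    · refine (pullback.lift_snd _ _ _).trans (Eq.trans ?_ (Category.assoc _ _ _).symm)
      exact (congrArg (g ≫ ·) (pullback.lift_snd _ _ _)).symm
  φ_self T x v := restrictMap_self D p' r s w x rfl v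
  φ_comp T x₀ x₁ x₂ h₀₁ h₁₂ v := restrictMap_comp D p' r s w x₀ x₁ x₂ h₀₁ h₁₂ v

theorem restrict_tr {T : Scheme.{u}} (v : T ⟶ pullback D.obj.hom r) (x : T ⟶ X')
    (h : v ≫ pullback.snd D.obj.hom r ≫ p' = x ≫ p') :
    tr (restrict D p' r s w) v x h =
      pullback.lift (tr D (v ≫ pullback.fst D.obj.hom r) (x ≫ r)
        (aux D p' r s w ((Category.assoc _ _ _).trans h) ⟨v, rfl⟩)) x (tr_hom _ _ _ _) :=
  (φ_eq_tr (restrict D p' r s w) (v ≫ pullback.snd D.obj.hom r) x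
    ((Category.assoc _ _ _).trans h) ⟨v, rfl⟩).symm

end Restrict

end Groth.Agent.Lib.FFDesc
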