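import Groth.Agent.Lib.FFDesc.Points

/-!
# Descent can be checked after refining the cover (FFDesc, part 5)

If `r : X' ⟶ X` is a map over `S` with `X' ⟶ S` an fpqc cover and the restriction of `D` along `r`
is effective, so is `D`. Also: uniqueness of descended schemes.
-/

universe u

open CategoryTheory CategoryTheory.Limits AlgebraicGeometry

namespace Groth.Agent.Lib.FFDesc

variable {X S : Scheme.{u}} {p : X ⟶ S} {D : Desc.SchDD p}

/-- Descended schemes are unique. -/
theorem IsDescended.isIso {U U' : Over S} {q : D.obj.left ⟶ U.left} {q' : D.obj.left ⟶ U'.left}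
    (H : IsDescended D U q) (H' : IsDescended D U' q') (hp : fpqcCover p) (γ : U.left ⟶ U'.left)
    (hγ : q ≫ γ = q') : IsIso γ := by
  obtain ⟨δ, hδ⟩ := H'.exists_desc hp q H.inv
  exact ⟨δ, H.hom_ext hp (by rw [reassoc_of% hγ, hδ, Category.comp_id]),
    H'.hom_ext hp (by rw [reassoc_of% hδ, hγ, Category.comp_id])⟩

section Shift

variable (D) {X' : Scheme.{u}} (r : X' ⟶ X)

/-- The point of `V ×_X X'` over `x` determined by a point `v` of `V`. -/
noncomputable def shift {T : Scheme.{u}} (v : T ⟶ D.obj.left) (x : T ⟶ X')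
    (h : v ≫ D.obj.hom ≫ p = x ≫ r ≫ p) : T ⟶ pullback D.obj.hom r :=
  pullback.lift (tr D v (x ≫ r) (h.trans (Category.assoc _ _ _).symm)) x (tr_hom _ _ _ _)

@[reassoc]
theorem shift_fst {T : Scheme.{u}} (v : T ⟶ D.obj.left) (x : T ⟶ X')
    (h : v ≫ D.obj.hom ≫ p = x ≫ r ≫ p) :
    shift D r v x h ≫ pullback.fst D.obj.hom r =
      tr D v (x ≫ r) (h.trans (Category.assoc _ _ _).symm) :=
  pullback.lift_fst _ _ _

@[reassoc]
theorem shift_snd {T : Scheme.{u}} (v : T ⟶ D.obj.left) (x : T ⟶ X')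
    (h : v ≫ D.obj.hom ≫ p = x ≫ r ≫ p) : shift D r v x h ≫ pullback.snd D.obj.hom r = x :=
  pullback.lift_snd _ _ _

theorem shift_congr {T : Scheme.{u}} {v v' : T ⟶ D.obj.left} {x x' : T ⟶ X'}
    (h : v ≫ D.obj.hom ≫ p = x ≫ r ≫ p) (hv : v = v') (hx : x = x') :
    shift D r v x h = shift D r v' x' (by rw [← hv, ← hx]; exact h) := by
  subst hv; subst hx; rfl

theorem comp_shift {T T' : Scheme.{u}} (g : T' ⟶ T) (v : T ⟶ D.obj.left) (x : T ⟶ X')
    (h : v ≫ D.obj.hom ≫ p = x ≫ r ≫ p) :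
    g ≫ shift D r v x h = shift D r (g ≫ v) (g ≫ x) (by simp only [Category.assoc, h]) := by
  refine pullback.hom_ext ?_ ?_
  · rw [Category.assoc, shift_fst, shift_fst, comp_tr]
    exact tr_congr D _ rfl (Category.assoc _ _ _).symm
  · rw [Category.assoc, shift_snd, shift_snd]

theorem shift_tr {T : Scheme.{u}} (v : T ⟶ D.obj.left) (y : T ⟶ X) (hy) (x : T ⟶ X')
    (h : tr D v y hy ≫ D.obj.hom ≫ p = x ≫ r ≫ p) :
    shift D r (tr D v y hy) x h = shift D r v x (by rw [hy, ← h, tr_hom_assoc]) :=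
  pullback.hom_ext (by rw [shift_fst, shift_fst, tr_tr]) (by rw [shift_snd, shift_snd])

theorem shift_self {T : Scheme.{u}} (a : T ⟶ pullback D.obj.hom r) :
    shift D r (a ≫ pullback.fst _ _) (a ≫ pullback.snd _ _)
      (by simp [pullback.condition_assoc]) = a := by
  refine pullback.hom_ext ?_ (shift_snd _ _ _ _ _)
  rw [shift_fst]
  exact tr_self D _ _ (by simp [pullback.condition])

end Shift

/-- Effectiveness descends along refinements of the cover. -/
theorem exists_isDescended_of_restrict {X' : Scheme.{u}} (p' : X' ⟶ S) (r : X' ⟶ X)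
    (w : r ≫ p = p') (hp' : fpqcCover p') {U : Over S}
    {q' : pullback D.obj.hom r ⟶ U.left}
    (H' : IsDescended (restrict D p' r (𝟙 S) ((Category.comp_id _).trans w.symm)) U q') :
    ∃ q : D.obj.left ⟶ U.left, IsDescended D U q := by
  subst w
  let D' := restrict D (r ≫ p) r (𝟙 S) ((Category.comp_id _).trans rfl)
  have hind : ∀ {T : Scheme.{u}} (v : T ⟶ D.obj.left) (x₀ x₁ : T ⟶ X') (h₀ h₁),
      shift D r v x₀ h₀ ≫ q' = shift D r v x₁ h₁ ≫ q' := fun v x₀ x₁ h₀ h₁ ↦ by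
    have hx : shift D r v x₀ h₀ ≫ pullback.snd D.obj.hom r ≫ r ≫ p = x₁ ≫ r ≫ p := by
      rw [shift_snd_assoc, ← h₀, h₁]
    have e : tr D' (shift D r v x₀ h₀) x₁ hx = shift D r v x₁ h₁ := by
      refine (restrict_tr D (r ≫ p) r (𝟙 S) _ _ x₁ hx).trans (pullback.hom_ext ?_ ?_)
      · rw [pullback.lift_fst]
        exact ((tr_congr D _ (shift_fst D r v x₀ h₀) rfl).trans (tr_tr D _ _ _ _ _)).trans
          (shift_fst D r v x₁ h₁).symm
      · rw [pullback.lift_snd, shift_snd]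
    exact (H'.tr_comp D' (shift D r v x₀ h₀) x₁ hx).symm.trans (congrArg (· ≫ q') e)
  -- descend the map `q` along the cover `ρ` of `V`
  obtain ⟨q, hq⟩ : ∃ q : D.obj.left ⟶ U.left, ∀ {T : Scheme.{u}} (v : T ⟶ D.obj.left)
      (x : T ⟶ X') (h), v ≫ q = shift D r v x h ≫ q' := by
    let ρ := pullback.fst (D.obj.hom ≫ p) (r ≫ p)
    let σ := pullback.snd (D.obj.hom ≫ p) (r ≫ p)
    have hρc : fpqcCover ρ :=
      MorphismProperty.of_isPullback (IsPullback.of_hasPullback _ _).flip hp'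
    have := hρc.effectiveEpi
    let k := shift D r ρ σ pullback.condition ≫ q'
    have hdesc : ∀ {Z : Scheme.{u}} (a b : Z ⟶ pullback (D.obj.hom ≫ p) (r ≫ p)),
        a ≫ ρ = b ≫ ρ → a ≫ k = b ≫ k := fun a b hab ↦ by
      simp only [k, ← Category.assoc, comp_shift]
      rw [shift_congr D r _ hab rfl]
      exact hind _ _ _ _ _
    refine ⟨EffectiveEpi.desc ρ k hdesc, fun v x h ↦ ?_⟩
    calc v ≫ EffectiveEpi.desc ρ k hdesc
        = (pullback.lift v x h ≫ ρ) ≫ EffectiveEpi.desc ρ k hdesc := by rw [pullback.lift_fst]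
      _ = pullback.lift v x h ≫ k := by rw [Category.assoc, EffectiveEpi.fac]
      _ = shift D r v x h ≫ q' := by
        simp only [k, ← Category.assoc, comp_shift]
        rw [shift_congr D r _ (pullback.lift_fst _ _ _) (pullback.lift_snd _ _ _)]
  have hcov : ∀ {T : Scheme.{u}} (y : T ⟶ S), fpqcCover (pullback.fst y (r ≫ p)) :=
    fun y ↦ MorphismProperty.of_isPullback (IsPullback.of_hasPullback _ _).flip hp'
  -- the square commutes
  have hw : D.obj.hom ≫ p = q ≫ U.hom := by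
    have := (hcov (D.obj.hom ≫ p)).effectiveEpi
    rw [← cancel_epi (pullback.fst (D.obj.hom ≫ p) (r ≫ p)),
      reassoc_of% hq _ (pullback.snd _ _) pullback.condition, pullback.condition]
    refine Eq.trans ?_ (congrArg (shift D r _ _ _ ≫ ·) H'.isPullback.w)
    exact (shift_snd_assoc _ _ _ _ _ _).symm
  -- invariance
  have hinv : pr D ≫ q = act D ≫ q := by
    have := (hcov (pr D ≫ D.obj.hom ≫ p)).effectiveEpi
    let π := pullback.fst (pr D ≫ D.obj.hom ≫ p) (r ≫ p)
    let x := pullback.snd (pr D ≫ D.obj.hom ≫ p) (r ≫ p)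
    have h₀ : (π ≫ pr D) ≫ D.obj.hom ≫ p = x ≫ r ≫ p := by
      rw [Category.assoc]; exact pullback.condition
    have h₁ : tr D (π ≫ pr D) (π ≫ pr₁ D) (by
        rw [Category.assoc, Category.assoc]
        exact congrArg (π ≫ ·) pullback.condition) ≫ D.obj.hom ≫ p = x ≫ r ≫ p := by
      rw [tr_hom_assoc, ← h₀, Category.assoc, Category.assoc]
      exact (congrArg (π ≫ ·) pullback.condition).symm
    have e : π ≫ act D = tr D (π ≫ pr D) (π ≫ pr₁ D) (by
        rw [Category.assoc, Category.assoc]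
        exact congrArg (π ≫ ·) pullback.condition) :=
      (congrArg (π ≫ ·) (act_eq_tr D)).trans (comp_tr D π _ _ _)
    refine (cancel_epi π).1 ?_
    exact ((Category.assoc _ _ _).symm.trans (hq _ x h₀)).trans
      ((congrArg (· ≫ q') (shift_tr D r (π ≫ pr D) _ _ x h₁).symm).trans
        ((hq _ x h₁).symm.trans ((congrArg (· ≫ q) e.symm).trans (Category.assoc _ _ _))))
  have hinv' : ∀ {T : Scheme.{u}} (v : T ⟶ D.obj.left) (x : T ⟶ X) (h),
      tr D v x h ≫ q = v ≫ q := fun v x h ↦ by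
    rw [tr, Category.assoc, ← hinv, pullback.lift_fst_assoc]
  -- points of `V` are determined by their images in `X` and `U`
  have hinj : ∀ {T : Scheme.{u}} (v₀ v₁ : T ⟶ D.obj.left),
      v₀ ≫ D.obj.hom = v₁ ≫ D.obj.hom → v₀ ≫ q = v₁ ≫ q → v₀ = v₁ := fun {T} v₀ v₁ hh hu ↦ by
    have := (hcov (v₀ ≫ D.obj.hom ≫ p)).effectiveEpi
    let π := pullback.fst (v₀ ≫ D.obj.hom ≫ p) (r ≫ p)
    let x := pullback.snd (v₀ ≫ D.obj.hom ≫ p) (r ≫ p)
    have hc : ∀ v : T ⟶ D.obj.left, v ≫ D.obj.hom = v₀ ≫ D.obj.hom →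
        (π ≫ v) ≫ D.obj.hom ≫ p = x ≫ r ≫ p := fun v hv ↦ by
      rw [Category.assoc, reassoc_of% hv]; exact pullback.condition
    have e : shift D r (π ≫ v₀) x (hc v₀ rfl) = shift D r (π ≫ v₁) x (hc v₁ hh.symm) := by
      refine H'.isPullback.hom_ext ?_ ?_
      · exact (shift_snd _ _ _ _ _).trans (shift_snd _ _ _ _ _).symm
      · exact (hq _ x _).symm.trans (((Category.assoc _ _ _).trans (congrArg (π ≫ ·) hu)).trans
          ((Category.assoc _ _ _).symm.trans (hq _ x _)))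
    have back : ∀ (v : T ⟶ D.obj.left) (hv : v ≫ D.obj.hom = v₀ ≫ D.obj.hom),
        tr D (shift D r (π ≫ v) x (hc v hv) ≫ pullback.fst _ _) (π ≫ v₀ ≫ D.obj.hom)
          (by
            rw [shift_fst, tr_hom_assoc]
            have := hc v hv
            simp only [Category.assoc] at this ⊢
            rw [← this, reassoc_of% hv]) = π ≫ v :=
      fun v hv ↦ by
        rw [tr_congr D _ (shift_fst D r (π ≫ v) x (hc v hv)) rfl, tr_tr]
        exact tr_self D _ _ (by rw [Category.assoc, hv])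
    rw [← cancel_epi π, ← back v₀ rfl, ← back v₁ hh.symm]
    exact tr_congr D _ (congrArg (· ≫ pullback.fst D.obj.hom r) e) rfl
  -- existence of points
  have hex : ∀ (c : PullbackCone p U.hom),
      ∃ l : c.pt ⟶ D.obj.left, l ≫ D.obj.hom = c.fst ∧ l ≫ q = c.snd := fun c ↦ by
    let π := pullback.fst c.snd q'
    let a := pullback.snd c.snd q'
    have : fpqcCover π :=
      MorphismProperty.of_isPullback (IsPullback.of_hasPullback _ _).flip (H'.cover hp')
    have := this.effectiveEpi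
    have haq : a ≫ q' = π ≫ c.snd := pullback.condition.symm
    have hv : (a ≫ pullback.fst D.obj.hom r) ≫ D.obj.hom ≫ p = (π ≫ c.fst) ≫ p := by
      rw [Category.assoc, pullback.condition_assoc, Category.assoc, c.condition,
        ← reassoc_of% haq]
      exact congrArg (a ≫ ·) H'.isPullback.w
    let v := tr D (a ≫ pullback.fst D.obj.hom r) (π ≫ c.fst) hv
    have hvh : v ≫ D.obj.hom = π ≫ c.fst := tr_hom _ _ _ _
    have hvq : v ≫ q = π ≫ c.snd := by
      rw [hinv', hq _ (a ≫ pullback.snd D.obj.hom r) (by simp [pullback.condition_assoc]),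
        shift_self, haq]
    have hd : ∀ {Z : Scheme.{u}} (g₁ g₂ : Z ⟶ pullback c.snd q'), g₁ ≫ π = g₂ ≫ π →
        g₁ ≫ v = g₂ ≫ v := fun g₁ g₂ hg ↦
      hinj _ _ (by rw [Category.assoc, Category.assoc, hvh, reassoc_of% hg])
        (by rw [Category.assoc, Category.assoc, hvq, reassoc_of% hg])
    exact ⟨EffectiveEpi.desc π v hd,
      by rw [← cancel_epi π, EffectiveEpi.fac_assoc, hvh],
      by rw [← cancel_epi π, EffectiveEpi.fac_assoc, hvq]⟩
  choose l hl₁ hl₂ using hex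
  exact ⟨q, ⟨⟨hw⟩, ⟨PullbackCone.IsLimit.mk _ l hl₁ hl₂ fun c m h₁ h₂ ↦
    hinj _ _ (h₁.trans (hl₁ c).symm) (h₂.trans (hl₂ c).symm)⟩⟩, hinv⟩

end Groth.Agent.Lib.FFDesc
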