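import Mathlib.RingTheory.Flat.Basic
import Mathlib.RingTheory.TensorProduct.Maps

/-!
# Descent of algebras along a flat ring map (FFDesc, part 1)

For a flat `R`-algebra `R'`, an `R'`-algebra `A'` and a "gluing" map `θ : A' → R' ⊗[R] A'`
(unit: `θ r = r ⊗ 1`, counit: `μ ∘ θ = id`, coassociativity), the invariants
`A = {a | θ a = 1 ⊗ a}` satisfy `R' ⊗[R] A ≅ A'`. Only flatness of `R'` is needed.
-/

open TensorProduct

namespace Groth.Agent.Lib.FFDesc

universe u

variable {R R' A' : Type u} [CommRing R] [CommRing R'] [CommRing A'] [Algebra R R'] [Algebra R A']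
  [Algebra R' A'] [IsScalarTower R R' A']

/-- The multiplication map `R' ⊗ A' → A'`. -/
noncomputable abbrev mulAct : R' ⊗[R] A' →ₐ[R] A' :=
  Algebra.TensorProduct.lift ((Algebra.ofId R' A').restrictScalars R) (AlgHom.id R A')
    fun _ _ ↦ Commute.all _ _

theorem mulAct_tmul (r : R') (a : A') : mulAct (R := R) (r ⊗ₜ[R] a) = algebraMap R' A' r * a := by
  simp [mulAct, Algebra.ofId_apply]

/-- The invariants of a gluing map. -/
abbrev invariants (θ : A' →ₐ[R] R' ⊗[R] A') : Subalgebra R A' :=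
  AlgHom.equalizer θ Algebra.TensorProduct.includeRight

theorem mem_invariants {θ : A' →ₐ[R] R' ⊗[R] A'} {a : A'} :
    a ∈ invariants θ ↔ θ a = 1 ⊗ₜ a := Iff.rfl

/-- The comparison map `R' ⊗ A → A'`. -/
noncomputable abbrev baseChangeInvariants (θ : A' →ₐ[R] R' ⊗[R] A') :
    R' ⊗[R] invariants θ →ₐ[R'] A' :=
  Algebra.TensorProduct.lift (Algebra.ofId R' A') (invariants θ).val fun _ _ ↦ Commute.all _ _

/-- Flat descent for algebras. -/
theorem bijective_baseChangeInvariants [Module.Flat R R'] (θ : A' →ₐ[R] R' ⊗[R] A')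
    (hunit : ∀ r : R', θ (algebraMap R' A' r) = r ⊗ₜ 1)
    (hcounit : ∀ a, mulAct (θ a) = a)
    (hco : ∀ a, LinearMap.lTensor R' θ.toLinearMap (θ a) = LinearMap.lTensor R'
      (Algebra.TensorProduct.includeRight : A' →ₐ[R] R' ⊗[R] A').toLinearMap (θ a)) :
    Function.Bijective (baseChangeInvariants θ) := by
  let incl : A' →ₗ[R] R' ⊗[R] A' :=
    (Algebra.TensorProduct.includeRight : A' →ₐ[R] R' ⊗[R] A').toLinearMap
  let d : A' →ₗ[R] R' ⊗[R] A' := θ.toLinearMap - incl
  let s : invariants θ →ₗ[R] A' := (invariants θ).val.toLinearMap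
  have hex : Function.Exact s d := fun a ↦
    ⟨fun ha ↦ ⟨⟨a, sub_eq_zero.1 ha⟩, rfl⟩, by rintro ⟨b, rfl⟩; exact sub_eq_zero.2 b.2⟩
  have hex' := Module.Flat.lTensor_exact (M := R') hex
  have hinj : Function.Injective (LinearMap.lTensor R' s) :=
    Module.Flat.lTensor_preserves_injective_linearMap _ Subtype.val_injective
  have hΦ : ∀ x, baseChangeInvariants θ x = mulAct (LinearMap.lTensor R' s x) := fun x ↦ by
    induction x with
    | zero => simp
    | tmul r a => simp [mulAct, s, baseChangeInvariants]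
    | add x y hx hy => simp [map_add, hx, hy]
  have hθμ : ∀ z, LinearMap.lTensor R' d z = 0 → θ (mulAct z) = z := fun z hz ↦ by
    let L : R' ⊗[R] (R' ⊗[R] A') →ₐ[R] R' ⊗[R] A' :=
      Algebra.TensorProduct.lift Algebra.TensorProduct.includeLeft (AlgHom.id R _)
        fun _ _ ↦ Commute.all _ _
    have h1 : θ (mulAct z) = L (LinearMap.lTensor R' θ.toLinearMap z) := by
      clear hz
      induction z with
      | zero => simp
      | tmul r a => simp [mulAct_tmul, map_mul, hunit, L]
      | add x y hx hy => simp [map_add, hx, hy]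
    have h2 : ∀ w, L (LinearMap.lTensor R' incl w) = w := fun w ↦ by
      induction w with
      | zero => simp
      | tmul r a => simp [L, incl]
      | add x y hx hy => simp [map_add, hx, hy]
    rw [LinearMap.lTensor_sub, LinearMap.sub_apply, sub_eq_zero] at hz
    rw [h1, hz, h2]
  have hker : ∀ a, LinearMap.lTensor R' d (θ a) = 0 := fun a ↦ by
    rw [LinearMap.lTensor_sub, LinearMap.sub_apply, sub_eq_zero]
    exact hco a
  refine ⟨fun x y h ↦ hinj ?_, fun a ↦ ?_⟩
  · have hx := hθμ _ ((hex' _).2 ⟨x, rfl⟩)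
    have hy := hθμ _ ((hex' _).2 ⟨y, rfl⟩)
    rw [← hΦ, h, hΦ, hy] at hx
    exact hx.symm
  · obtain ⟨x, hx⟩ := (hex' _).1 (hker a)
    exact ⟨x, by rw [hΦ, hx, hcounit]⟩

end Groth.Agent.Lib.FFDesc
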