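import Mathlib.AlgebraicGeometry.Sites.Fpqc
import Groth.Prelude.Def_Desc

/-!
# Descent data for schemes (FFDesc, part 2)

Single fpqc covers, the two projections of a descent datum, recognition of descended schemes and
their universal property.
-/

universe u

open CategoryTheory CategoryTheory.Limits AlgebraicGeometry

namespace Groth.Agent.Lib.FFDesc

variable {X S : Scheme.{u}}

/-- `p` is a single fpqc covering: surjective, flat, and every affine open of the base is the
image of a quasi-compact open. -/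
def fpqcCover : MorphismProperty Scheme.{u} :=
  fun _ Y f ↦ Presieve.singleton f ∈ Scheme.fpqcPrecoverage Y

theorem fpqcCover_of_quasiCompact (f : X ⟶ S) [Surjective f] [Flat f] [QuasiCompact f] :
    fpqcCover f :=
  f.singleton_mem_fpqcPrecoverage

theorem fpqcCover_of_lfp (f : X ⟶ S) [Surjective f] [Flat f] [LocallyOfFinitePresentation f] :
    fpqcCover f :=
  Scheme.fppfPrecoverage_le_fpqcPrecoverage S f.singleton_mem_fppfPrecoverage

theorem fpqcCover.mem_precoverage {f : X ⟶ S} (h : fpqcCover f) :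
    Presieve.singleton f ∈ Scheme.precoverage @Flat S ∧
      Presieve.singleton f ∈ Scheme.qcPrecoverage S := ⟨h.2, h.1⟩

theorem fpqcCover.flat {f : X ⟶ S} (h : fpqcCover f) : Flat f := by
  have := h.mem_precoverage.1
  rw [← Presieve.ofArrows_pUnit.{0}] at this
  exact ((Scheme.ofArrows_mem_precoverage_iff (P := @Flat)).1 this).2 ⟨⟩

theorem fpqcCover.surjective {f : X ⟶ S} (h : fpqcCover f) : Surjective f := by
  have := h.mem_precoverage.1
  rw [← Presieve.ofArrows_pUnit.{0}] at this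
  exact ⟨fun x ↦ let ⟨_, y, hy⟩ := ((Scheme.ofArrows_mem_precoverage_iff (P := @Flat)).1 this).1 x; ⟨y, hy⟩⟩

theorem fpqcCover.quasiCompactCover {f : X ⟶ S} (h : fpqcCover f) :
    QuasiCompactCover (PreZeroHypercover.singleton.{0} f) := by
  rw [← Scheme.presieve₀_mem_qcPrecoverage_iff, PreZeroHypercover.presieve₀_singleton]
  exact h.mem_precoverage.2

instance : (fpqcCover.{u}).IsStableUnderBaseChange where
  of_isPullback {X Y Y' X' f g f' g'} sq hg := by
    change Presieve.singleton g' ∈ _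
    rw [← Presieve.ofArrows_pUnit.{0}] at *
    refine Precoverage.mem_coverings_of_isPullback (fun _ : PUnit.{1} ↦ g) ?_ f (fun _ ↦ g')
      (fun _ ↦ f') fun _ ↦ sq.flip
    rw [Presieve.ofArrows_pUnit]
    exact hg

theorem fpqcCover.effectiveEpi {f : X ⟶ S} (h : fpqcCover f) : EffectiveEpi f := by
  rw [← Sieve.effectiveEpimorphic_singleton,
    Presieve.EffectiveEpimorphic.iff_forall_isSheafFor_yoneda]
  intro Z
  exact (GrothendieckTopology.Subcanonical.isSheaf_of_isRepresentable _).isSheafFor _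
    (Precoverage.generate_mem_toGrothendieck h)

/-- Every quasi-compact open of the base is the image of a quasi-compact open of the source. -/
theorem fpqcCover.exists_image_eq {f : X ⟶ S} (h : fpqcCover f) {U : S.Opens}
    (hU : IsCompact (U : Set S)) :
    ∃ V : X.Opens, IsCompact (V : Set X) ∧ f '' (V : Set X) = (U : Set S) := by
  have := h.quasiCompactCover
  obtain ⟨n, a, V, hV, heq⟩ :=
    QuasiCompactCover.exists_isAffineOpen_of_isCompact (PreZeroHypercover.singleton f) hU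
  let V' : Fin n → X.Opens := V
  refine ⟨iSup V', ?_, ?_⟩
  · have e : (↑(iSup V') : Set X) = ⋃ i, (V' i : Set X) := TopologicalSpace.Opens.coe_iSup _
    rw [e]
    exact isCompact_iUnion fun i ↦ (hV i).isCompact
  · have e : (↑(iSup V') : Set X) = ⋃ i, (V' i : Set X) := TopologicalSpace.Opens.coe_iSup _
    rw [e, Set.image_iUnion]
    exact heq

variable {p : X ⟶ S} (D : Desc.SchDD p)

/-- The scheme `V ×_S X` of a point of `V` and a second point of `X`. -/
noncomputable abbrev V₂ : Scheme.{u} := pullback (D.obj.hom ≫ p) p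

/-- The projection `V ×_S X ⟶ V`. -/
noncomputable abbrev pr : V₂ D ⟶ D.obj.left := pullback.fst _ _

/-- The projection `V ×_S X ⟶ X`. -/
noncomputable abbrev pr₁ : V₂ D ⟶ X := pullback.snd _ _

/-- The gluing map, as a morphism `V ×_S X ⟶ V`. -/
noncomputable def act : V₂ D ⟶ D.obj.left :=
  (D.φ (pr D ≫ D.obj.hom) (pr₁ D) (by rw [Category.assoc]; exact pullback.condition) ⟨pr D, rfl⟩).1

@[reassoc]
theorem act_hom : act D ≫ D.obj.hom = pr₁ D :=
  (D.φ (pr D ≫ D.obj.hom) (pr₁ D) (by rw [Category.assoc]; exact pullback.condition) ⟨pr D, rfl⟩).2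

theorem φ_eq {T : Scheme.{u}} (x₀ x₁ : T ⟶ X) (h : x₀ ≫ p = x₁ ≫ p) (v : Desc.Lifts D.obj x₀) :
    (D.φ x₀ x₁ h v).1 =
      pullback.lift v.1 x₁ (by rw [← Category.assoc, v.2]; exact h) ≫ act D := by
  obtain ⟨v, rfl⟩ := v
  have key : ∀ (y₀ y₁ : T ⟶ X) (e₀ : y₀ = v ≫ D.obj.hom) (e₁ : y₁ = x₁) (h' : y₀ ≫ p = y₁ ≫ p),
      (D.φ y₀ y₁ h' ⟨v, e₀.symm⟩).1 = (D.φ (v ≫ D.obj.hom) x₁ h ⟨v, rfl⟩).1 := by
    rintro y₀ y₁ rfl rfl h'
    rfl
  set L : T ⟶ V₂ D := pullback.lift v x₁ ((Category.assoc v D.obj.hom p).symm.trans h) with hL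
  have e₀ : L ≫ pr D ≫ D.obj.hom = v ≫ D.obj.hom := by simp [hL, pullback.lift_fst_assoc]
  have e₁ : L ≫ pr₁ D = x₁ := pullback.lift_snd _ _ _
  rw [← key _ _ e₀ e₁ (by rw [e₀, e₁]; exact h)]
  exact D.φ_natural L (pr D ≫ D.obj.hom) (pr₁ D) _ _ ⟨pr D, rfl⟩ ⟨v, e₀.symm⟩
    (pullback.lift_fst _ _ _).symm

theorem lift_self_act {T : Scheme.{u}} (v : T ⟶ D.obj.left) :
    pullback.lift v (v ≫ D.obj.hom) (by simp) ≫ act D = v := by
  rw [← φ_eq D (v ≫ D.obj.hom) (v ≫ D.obj.hom) rfl ⟨v, rfl⟩, D.φ_self]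

theorem lift_act_act {T : Scheme.{u}} (v : T ⟶ D.obj.left) (x₁ x₂ : T ⟶ X)
    (h₁ : v ≫ D.obj.hom ≫ p = x₁ ≫ p) (h₂ : x₁ ≫ p = x₂ ≫ p) :
    pullback.lift (pullback.lift v x₁ h₁ ≫ act D) x₂
      (by rw [← h₂, Category.assoc, act_hom_assoc, pullback.lift_snd_assoc]) ≫ act D =
      pullback.lift v x₂ (h₁.trans h₂) ≫ act D := by
  have h₁' : (v ≫ D.obj.hom) ≫ p = x₁ ≫ p := by rw [Category.assoc]; exact h₁
  have := congrArg Subtype.val (D.φ_comp (v ≫ D.obj.hom) x₁ x₂ h₁' h₂ ⟨v, rfl⟩)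
  rw [φ_eq D x₁ x₂, φ_eq D (v ≫ D.obj.hom) x₂] at this
  simp only [φ_eq D (v ≫ D.obj.hom) x₁] at this
  exact this

/-- `q : V ⟶ U` exhibits `U` as the descended scheme of `D`. -/
structure IsDescended (U : Over S) (q : D.obj.left ⟶ U.left) : Prop where
  isPullback : IsPullback D.obj.hom q p U.hom
  inv : pr D ≫ q = act D ≫ q

theorem toDD_φ_snd (U : Over S) {T : Scheme.{u}} (x₀ x₁ : T ⟶ X) (h : x₀ ≫ p = x₁ ≫ p)
    (v : Desc.Lifts ((Desc.toDD p).obj U).obj x₀) :
    (((Desc.toDD p).obj U).φ x₀ x₁ h v).1 ≫ pullback.snd p U.hom = v.1 ≫ pullback.snd p U.hom :=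
  pullback.lift_snd _ _ _

namespace IsDescended

variable {D} {U : Over S} {q : D.obj.left ⟶ U.left} (H : IsDescended D U q)
include H

theorem φ_comp_q {T : Scheme.{u}} (x₀ x₁ : T ⟶ X) (h : x₀ ≫ p = x₁ ≫ p)
    (v : Desc.Lifts D.obj x₀) : (D.φ x₀ x₁ h v).1 ≫ q = v.1 ≫ q := by
  rw [φ_eq, Category.assoc, ← H.inv, pullback.lift_fst_assoc]

/-- The descended scheme solves the descent problem. -/
noncomputable def iso : (Desc.toDD p).obj U ≅ D where
  hom := ⟨Over.homMk H.isPullback.isoPullback.inv H.isPullback.isoPullback_inv_fst,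
    fun T x₀ x₁ h v w hw ↦ by
      apply H.isPullback.hom_ext
      · rw [(D.φ x₀ x₁ h w).2]
        simp [Desc.toDD, Desc.canonicalDD]
      · rw [H.φ_comp_q, hw]
        simp only [Category.assoc]
        exact ((congrArg (v.1 ≫ ·) H.isPullback.isoPullback_inv_snd).trans
          (toDD_φ_snd U x₀ x₁ h v).symm).trans
          (congrArg (_ ≫ ·) H.isPullback.isoPullback_inv_snd).symm⟩
  inv := ⟨Over.homMk H.isPullback.isoPullback.hom H.isPullback.isoPullback_hom_fst,
    fun T x₀ x₁ h v w hw ↦ by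
      apply pullback.hom_ext
      · have := (((Desc.toDD p).obj U).φ x₀ x₁ h w).2
        simp [Desc.toDD, Desc.canonicalDD] at this ⊢
        exact (D.φ x₀ x₁ h v).2.symm
      · refine (toDD_φ_snd U x₀ x₁ h w).trans ?_
        refine Eq.trans ?_ ((congrArg ((D.φ x₀ x₁ h v).1 ≫ ·)
          H.isPullback.isoPullback_hom_snd).trans (H.φ_comp_q x₀ x₁ h v) |>.symm.trans
          (Category.assoc _ _ _).symm)
        rw [hw]
        refine (Category.assoc _ _ _).trans ?_
        exact congrArg (v.1 ≫ ·) H.isPullback.isoPullback_hom_snd⟩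
  hom_inv_id := by ext; exact H.isPullback.isoPullback.inv_hom_id
  inv_hom_id := by ext; exact H.isPullback.isoPullback.hom_inv_id

theorem exists_iso : ∃ U : Over S, Nonempty ((Desc.toDD p).obj U ≅ D) := ⟨U, ⟨H.iso⟩⟩

theorem cover (hp : fpqcCover p) : fpqcCover q :=
  MorphismProperty.of_isPullback H.isPullback hp

theorem epi (hp : fpqcCover p) : Epi q :=
  have := (H.cover hp).effectiveEpi
  inferInstance

theorem kernelPair {T : Scheme.{u}} (a b : T ⟶ D.obj.left) (h : a ≫ q = b ≫ q) :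
    ∃ h' : a ≫ D.obj.hom ≫ p = (b ≫ D.obj.hom) ≫ p,
      pullback.lift a (b ≫ D.obj.hom) h' ≫ act D = b := by
  have h' : a ≫ D.obj.hom ≫ p = (b ≫ D.obj.hom) ≫ p := by
    rw [Category.assoc, H.isPullback.w, reassoc_of% h]
  refine ⟨h', H.isPullback.hom_ext ?_ ?_⟩
  · rw [Category.assoc, act_hom, pullback.lift_snd]
  · rw [Category.assoc, ← H.inv, pullback.lift_fst_assoc, h]

/-- Universal property: invariant maps out of `V` factor through `U`. -/
theorem exists_desc (hp : fpqcCover p) {Z : Scheme.{u}} (k : D.obj.left ⟶ Z)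
    (hk : pr D ≫ k = act D ≫ k) : ∃ l : U.left ⟶ Z, q ≫ l = k := by
  have := (H.cover hp).effectiveEpi
  refine ⟨EffectiveEpi.desc q k ?h, EffectiveEpi.fac q k ?h⟩
  intro T a b h
  obtain ⟨h', hb⟩ := H.kernelPair a b h
  rw [← hb, Category.assoc, ← hk, pullback.lift_fst_assoc]

theorem hom_ext (hp : fpqcCover p) {Z : Scheme.{u}} {a b : U.left ⟶ Z} (h : q ≫ a = q ≫ b) :
    a = b :=
  have := H.epi hp
  (cancel_epi q).1 h

end IsDescended

/-- A scheme isomorphic to a canonical datum is descended. -/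
theorem exists_isDescended_of_iso {U : Over S} (e : (Desc.toDD p).obj U ≅ D) :
    IsDescended D U (e.inv.hom.left ≫ pullback.snd p U.hom) := by
  constructor
  · refine IsPullback.of_iso (IsPullback.of_hasPullback p U.hom) ?_ (Iso.refl _) (Iso.refl _)
      (Iso.refl _) ?_ ?_ (by simp) (by simp)
    · exact ⟨e.hom.hom.left, e.inv.hom.left, congr($(e.hom_inv_id).hom.left),
        congr($(e.inv_hom_id).hom.left)⟩
    · simp [Desc.toDD, Desc.canonicalDD]
    · have h1 : e.hom.hom.left ≫ e.inv.hom.left = 𝟙 _ := congr($(e.hom_inv_id).hom.left)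
      simp
      exact ((reassoc_of% h1) (pullback.snd p U.hom)).symm
  · have hc := e.inv.comm (pr D ≫ D.obj.hom) (pr₁ D)
      (by rw [Category.assoc]; exact pullback.condition) ⟨pr D, rfl⟩ (e.inv.push ⟨pr D, rfl⟩) rfl
    have := (toDD_φ_snd U _ _ _ _).symm.trans congr($hc ≫ pullback.snd p U.hom)
    simp [Desc.SchDD.Hom.push] at this
    exact this

end Groth.Agent.Lib.FFDesc
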