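import Mathlib.Algebra.Category.Ring.Constructions
import Mathlib.AlgebraicGeometry.Morphisms.Affine
import Mathlib.AlgebraicGeometry.Morphisms.Flat
import Groth.Agent.Lib.FFDesc.Algebra
import Groth.Agent.Lib.FFDesc.Datum

/-!
# Descent over an affine base (FFDesc, part 3)

For `p : X ⟶ S` a flat surjection of affine schemes, descent data with quasi-affine underlying
scheme are effective.
-/

universe u

open CategoryTheory CategoryTheory.Limits AlgebraicGeometry TensorProduct

namespace Groth.Agent.Lib.FFDesc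

/-- Global sections of a flat base change of a qcqs scheme between affine bases. -/
theorem bijective_of_pullback {X S W : Scheme.{u}} [IsAffine X] [IsAffine S] (p : X ⟶ S) [Flat p]
    (k : W ⟶ S) [CompactSpace W] [QuasiSeparatedSpace W] {B : Type u} [CommRing B]
    [Algebra Γ(S, ⊤) Γ(X, ⊤)] [Algebra Γ(S, ⊤) B] (e : B ≃+* Γ(W, ⊤))
    (hp : ∀ r, algebraMap Γ(S, ⊤) Γ(X, ⊤) r = p.appTop r)
    (hk : ∀ r, e (algebraMap Γ(S, ⊤) B r) = k.appTop r)
    (ψ : Γ(X, ⊤) ⊗[Γ(S, ⊤)] B →+* Γ(pullback k p, ⊤))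
    (h₁ : ∀ r, ψ (r ⊗ₜ 1) = (pullback.snd k p).appTop r)
    (h₂ : ∀ b, ψ (1 ⊗ₜ b) = (pullback.fst k p).appTop (e b)) : Function.Bijective ψ := by
  have := isIso_pushoutSection_of_isQuasiSeparated_of_flat_right (IsPullback.of_hasPullback k p)
    (US := ⊤) (UT := ⊤) (UX := ⊤) (UY := ⊤) le_top le_top (by simp) (isAffineOpen_top S)
    (isAffineOpen_top X) isCompact_univ isQuasiSeparated_univ
  have happ : ∀ {A B : Scheme.{u}} (f : A ⟶ B) (h : (⊤ : A.Opens) ≤ f ⁻¹ᵁ ⊤),
      f.appLE ⊤ ⊤ h = f.appTop := fun f h ↦ f.app_eq_appLE.symm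
  have sq := ((isIso_pushoutSection_iff ..).1 this).flip
  simp only [happ] at sq
  have sq' : IsPushout (CommRingCat.ofHom (algebraMap Γ(S, ⊤) Γ(X, ⊤)))
      (CommRingCat.ofHom (algebraMap Γ(S, ⊤) B)) (pullback.snd k p).appTop
      (e.toCommRingCatIso.hom ≫ (pullback.fst k p).appTop) := by
    refine IsPushout.of_iso sq (Iso.refl _) (Iso.refl _) e.toCommRingCatIso.symm (Iso.refl _)
      ?_ ?_ ?_ ?_
    · ext r
      simp [hp]
    · ext r
      apply e.injective
      simp [hk]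
    · simp
    · rw [Iso.refl_hom, Category.comp_id, Iso.symm_hom, Iso.inv_hom_id_assoc]
  let h₀ := CommRingCat.isPushout_tensorProduct Γ(S, ⊤) Γ(X, ⊤) B
  have hψ : CommRingCat.ofHom ψ = (h₀.isoPushout ≪≫ sq'.isoPushout.symm).hom := by
    refine h₀.hom_ext ?_ ?_
    · simp only [Iso.trans_hom, Iso.symm_hom, IsPushout.inl_isoPushout_hom_assoc,
        IsPushout.inl_isoPushout_inv]
      ext r; exact h₁ r
    · simp only [Iso.trans_hom, Iso.symm_hom, IsPushout.inr_isoPushout_hom_assoc,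
        IsPushout.inr_isoPushout_inv]
      ext b; exact h₂ b
  have : IsIso (CommRingCat.ofHom ψ) := by rw [hψ]; infer_instance
  exact ConcreteCategory.bijective_of_isIso (CommRingCat.ofHom ψ)

/-- A descent datum on a qcqs scheme over an affine base gives a scheme over the base whose base
change is the affinisation, and through which both projections agree. -/
theorem exists_affinization {X S : Scheme.{u}} [IsAffine X] [IsAffine S] {p : X ⟶ S} [Flat p]
    (D : Desc.SchDD p) [CompactSpace D.obj.left] [QuasiSeparatedSpace D.obj.left] :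
    ∃ (U : Over S) (_ : IsAffine U.left) (g : Spec Γ(D.obj.left, ⊤) ⟶ X)
      (q : Spec Γ(D.obj.left, ⊤) ⟶ U.left),
      IsPullback g q p U.hom ∧ D.obj.left.toSpecΓ ≫ g = D.obj.hom ∧
        pr D ≫ D.obj.left.toSpecΓ ≫ q = act D ≫ D.obj.left.toSpecΓ ≫ q := by
  let V := D.obj.left
  let R := Γ(S, ⊤)
  let R' := Γ(X, ⊤)
  let A' := Γ(V, ⊤)
  let : Algebra Γ(S, ⊤) Γ(X, ⊤) := p.appTop.hom.toAlgebra
  let : Algebra Γ(X, ⊤) Γ(V, ⊤) := D.obj.hom.appTop.hom.toAlgebra
  let : Algebra Γ(S, ⊤) Γ(V, ⊤) := (D.obj.hom ≫ p).appTop.hom.toAlgebra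
  have : IsScalarTower Γ(S, ⊤) Γ(X, ⊤) Γ(V, ⊤) := IsScalarTower.of_algebraMap_eq fun r ↦ by
    simp [RingHom.algebraMap_toAlgebra]
  have : Module.Flat Γ(S, ⊤) Γ(X, ⊤) := p.flat_appTop
  have halg : ∀ r : R, algebraMap Γ(S, ⊤) Γ(V, ⊤) r = (D.obj.hom ≫ p).appTop r := fun r ↦ rfl
  have hpr₁ : ∀ r : R, (pr D).appTop ((D.obj.hom ≫ p).appTop r) =
      (pr₁ D).appTop (p.appTop r) := fun r ↦ by
    simp only [← CommRingCat.comp_apply, ← Scheme.Hom.comp_appTop]
    rw [pullback.condition]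
  let ψ₁ : Γ(X, ⊤) ⊗[Γ(S, ⊤)] Γ(V, ⊤) →+* Γ(V₂ D, ⊤) :=
    letI : Algebra Γ(S, ⊤) Γ(V₂ D, ⊤) :=
      ((pr₁ D).appTop.hom.comp p.appTop.hom).toAlgebra
    (Algebra.TensorProduct.lift (⟨(pr₁ D).appTop.hom, fun _ ↦ rfl⟩ : R' →ₐ[R] Γ(V₂ D, ⊤))
      (⟨(pr D).appTop.hom, fun r ↦ (congrArg (pr D).appTop (halg r)).trans (hpr₁ r)⟩ :
        A' →ₐ[R] Γ(V₂ D, ⊤)) fun _ _ ↦ Commute.all _ _).toRingHom
  have hψ₁t : ∀ r a, ψ₁ (r ⊗ₜ a) = (pr₁ D).appTop r * (pr D).appTop a := fun r a ↦ rfl
  have hψ₁ : Function.Bijective ψ₁ := bijective_of_pullback p (D.obj.hom ≫ p) (RingEquiv.refl _)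
    (fun _ ↦ rfl) (fun _ ↦ rfl) ψ₁ (fun r ↦ by simp [hψ₁t]) (fun b ↦ by simp [hψ₁t])
  let e₁ := RingEquiv.ofBijective ψ₁ hψ₁
  let θ : A' →ₐ[R] R' ⊗[R] A' :=
    { toRingHom := e₁.symm.toRingHom.comp (act D).appTop.hom
      commutes' := fun r ↦ by
        change e₁.symm ((act D).appTop (algebraMap Γ(S, ⊤) Γ(V, ⊤) r)) = _
        rw [RingEquiv.symm_apply_eq, Algebra.TensorProduct.algebraMap_apply]
        change _ = ψ₁ (algebraMap Γ(S, ⊤) Γ(X, ⊤) r ⊗ₜ 1)
        rw [hψ₁t, map_one, mul_one, halg]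
        simp only [← CommRingCat.comp_apply, ← Scheme.Hom.comp_appTop, RingHom.algebraMap_toAlgebra]
        rw [← act_hom_assoc] }
  have hθ : ∀ a, ψ₁ (θ a) = (act D).appTop a := fun a ↦ e₁.apply_symm_apply _
  have hθinj := hψ₁.1
  -- unit
  have hunit : ∀ r : R', θ (algebraMap Γ(X, ⊤) Γ(V, ⊤) r) = r ⊗ₜ 1 := fun r ↦ by
    apply hθinj
    rw [hθ, hψ₁t, map_one, mul_one]
    change (act D).appTop (D.obj.hom.appTop r) = _
    rw [← CommRingCat.comp_apply, ← Scheme.Hom.comp_appTop, act_hom]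
  -- counit
  let Δ : V ⟶ V₂ D := pullback.lift (𝟙 _) D.obj.hom (by simp [V])
  have hΔ : ∀ z, mulAct (R := R) z = Δ.appTop (ψ₁ z) := fun z ↦ by
    induction z with
    | zero => simp
    | tmul r a =>
      rw [mulAct_tmul, hψ₁t, map_mul]
      simp only [← CommRingCat.comp_apply, ← Scheme.Hom.comp_appTop, Δ, pullback.lift_fst,
        pullback.lift_snd]
      simp [RingHom.algebraMap_toAlgebra]
      rfl
    | add x y hx hy => simp [map_add, hx, hy]
  have hcounit : ∀ a, mulAct (R := R) (θ a) = a := fun a ↦ by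
    have e : Δ ≫ act D = 𝟙 _ := by
      convert! lift_self_act D (𝟙 D.obj.left) using 3
    rw [hΔ, hθ, ← CommRingCat.comp_apply, ← Scheme.Hom.comp_appTop, e]
    simp
    rfl
  -- coassociativity
  let V₃ := pullback (pr₁ D ≫ p) p
  let π : V₃ ⟶ V₂ D := pullback.fst _ _
  let y : V₃ ⟶ X := pullback.snd _ _
  have hπ : ∀ r : R, π.appTop (ψ₁ (algebraMap R (R' ⊗[R] A') r)) = y.appTop (p.appTop r) :=
    fun r ↦ by
      rw [Algebra.TensorProduct.algebraMap_apply, hψ₁t, map_one, mul_one]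
      simp only [← CommRingCat.comp_apply, ← Scheme.Hom.comp_appTop, RingHom.algebraMap_toAlgebra]
      rw [← show π ≫ pr₁ D ≫ p = y ≫ p from pullback.condition]
  let ψ₃ : R' ⊗[R] (R' ⊗[R] A') →+* Γ(V₃, ⊤) :=
    letI : Algebra Γ(S, ⊤) Γ(V₃, ⊤) := (y.appTop.hom.comp p.appTop.hom).toAlgebra
    (Algebra.TensorProduct.lift (⟨y.appTop.hom, fun _ ↦ rfl⟩ : R' →ₐ[R] Γ(V₃, ⊤))
      (⟨π.appTop.hom.comp ψ₁, hπ⟩ : R' ⊗[R] A' →ₐ[R] Γ(V₃, ⊤))
        fun _ _ ↦ Commute.all _ _).toRingHom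
  have hψ₃t : ∀ r b, ψ₃ (r ⊗ₜ b) = y.appTop r * π.appTop (ψ₁ b) := fun r b ↦ rfl
  have : IsAffineHom p := inferInstance
  have : IsAffineHom (pr D) :=
    MorphismProperty.of_isPullback (IsPullback.of_hasPullback _ p).flip ‹IsAffineHom p›
  have : CompactSpace (V₂ D) := QuasiCompact.compactSpace_of_compactSpace (pr D)
  have : QuasiSeparatedSpace (V₂ D) := quasiSeparatedSpace_of_quasiSeparated (pr D)
  have hψ₃ : Function.Bijective ψ₃ := bijective_of_pullback p (pr₁ D ≫ p) e₁
    (fun _ ↦ rfl) (fun r ↦ by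
      rw [Algebra.TensorProduct.algebraMap_apply]
      refine (hψ₁t _ _).trans ?_
      rw [map_one, mul_one]
      rfl) ψ₃ (fun r ↦ (hψ₃t r 1).trans (by rw [map_one, map_one, mul_one]))
    (fun b ↦ (hψ₃t 1 b).trans (by rw [map_one, one_mul]; rfl))
  have hco : ∀ a, LinearMap.lTensor R' θ.toLinearMap (θ a) = LinearMap.lTensor R'
      (Algebra.TensorProduct.includeRight : A' →ₐ[R] R' ⊗[R] A').toLinearMap (θ a) := fun a ↦ by
    have c₁ : (π ≫ act D) ≫ D.obj.hom ≫ p = y ≫ p := by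
      simp [π, y, V₃, act_hom_assoc, ← pullback.condition]
    have c₂ : (π ≫ pr D) ≫ D.obj.hom ≫ p = y ≫ p := by
      rw [Category.assoc, pullback.condition, ← pullback.condition (f := pr₁ D ≫ p) (g := p)]
    let m₁ : V₃ ⟶ V₂ D := pullback.lift (π ≫ act D) y c₁
    let m₂ : V₃ ⟶ V₂ D := pullback.lift (π ≫ pr D) y c₂
    have hm₁ : ∀ z, ψ₃ (LinearMap.lTensor R' θ.toLinearMap z) = m₁.appTop (ψ₁ z) := fun z ↦ by
      induction z with
      | zero => simp
      | tmul r b =>
        rw [LinearMap.lTensor_tmul, hψ₃t, hψ₁t, map_mul, AlgHom.toLinearMap_apply, hθ]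
        simp only [← CommRingCat.comp_apply, ← Scheme.Hom.comp_appTop, m₁, pullback.lift_fst,
          pullback.lift_snd]
      | add x y hx hy => simp only [map_add, hx, hy]
    have hm₂ : ∀ z, ψ₃ (LinearMap.lTensor R'
        (Algebra.TensorProduct.includeRight : A' →ₐ[R] R' ⊗[R] A').toLinearMap z) =
        m₂.appTop (ψ₁ z) := fun z ↦ by
      induction z with
      | zero => simp
      | tmul r b =>
        rw [LinearMap.lTensor_tmul, hψ₃t, hψ₁t, map_mul, AlgHom.toLinearMap_apply,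
          Algebra.TensorProduct.includeRight_apply, hψ₁t, map_one, one_mul]
        simp only [← CommRingCat.comp_apply, ← Scheme.Hom.comp_appTop, m₂, pullback.lift_fst,
          pullback.lift_snd]
      | add x y hx hy => simp only [map_add, hx, hy]
    apply hψ₃.1
    rw [hm₁, hm₂, hθ]
    simp only [← CommRingCat.comp_apply, ← Scheme.Hom.comp_appTop]
    have key : m₁ ≫ act D = m₂ ≫ act D := by
      have := lift_act_act D (π ≫ pr D) (π ≫ pr₁ D) y
        (by rw [Category.assoc, Category.assoc, pullback.condition])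
        (by rw [Category.assoc]; exact pullback.condition)
      have e : pullback.lift (π ≫ pr D) (π ≫ pr₁ D)
          (by rw [Category.assoc, Category.assoc, pullback.condition]) = π :=
        pullback.hom_ext (pullback.lift_fst _ _ _) (pullback.lift_snd _ _ _)
      simp only [e] at this
      exact this
    rw [key]
  -- the descended ring
  have hΦ := bijective_baseChangeInvariants θ hunit hcounit hco
  let A := invariants θ
  let ι : CommRingCat.of A ⟶ Γ(V, ⊤) := CommRingCat.ofHom A.val.toRingHom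
  have sqA : IsPushout (CommRingCat.ofHom (algebraMap R R')) (CommRingCat.ofHom (algebraMap R A))
      D.obj.hom.appTop ι := by
    refine IsPushout.of_iso (CommRingCat.isPushout_tensorProduct R R' A) (Iso.refl _) (Iso.refl _)
      (Iso.refl _) (RingEquiv.ofBijective (baseChangeInvariants θ).toRingHom hΦ).toCommRingCatIso
      (by rfl) (by rfl) ?_ ?_
    · ext r
      change baseChangeInvariants θ (r ⊗ₜ 1) = _
      simp [baseChangeInvariants, Algebra.ofId_apply]
      rfl
    · ext b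
      change baseChangeInvariants θ (1 ⊗ₜ b) = _
      simp [baseChangeInvariants]
      rfl
  have hinv : ∀ b, (pr D).appTop (ι b) = (act D).appTop (ι b) := fun b ↦ by
    have := congrArg ψ₁ (mem_invariants.1 b.2)
    rw [hθ, hψ₁t, map_one, one_mul] at this
    exact this.symm
  refine ⟨Over.mk (Spec.map (CommRingCat.ofHom (algebraMap R A)) ≫ S.isoSpec.inv),
    inferInstanceAs (IsAffine (Spec _)), Spec.map D.obj.hom.appTop ≫ X.isoSpec.inv, Spec.map ι,
    ?_, ?_, ?_⟩
  · refine IsPullback.of_iso (isPullback_SpecMap_of_isPushout _ _ _ _ sqA) (Iso.refl _)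
      X.isoSpec.symm (Iso.refl _) S.isoSpec.symm ?_ ?_ ?_ ?_
    · simp
    · simp
    · exact Scheme.isoSpec_inv_naturality p
    · simp
  · rw [← Scheme.toSpecΓ_naturality_assoc, ← Scheme.isoSpec_hom, Iso.hom_inv_id, Category.comp_id]
  · rw [← Category.assoc, ← Category.assoc, Scheme.toSpecΓ_naturality, Scheme.toSpecΓ_naturality,
      Category.assoc, Category.assoc, ← Spec.map_comp, ← Spec.map_comp]
    congr 2
    ext b
    exact hinv b

/-- Descent data with quasi-affine underlying scheme are effective over an affine base. -/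
theorem exists_isDescended_of_quasiAffine {X S : Scheme.{u}} [IsAffine X] [IsAffine S] {p : X ⟶ S}
    [Flat p] [Surjective p] (D : Desc.SchDD p) [Scheme.IsQuasiAffine D.obj.left] :
    ∃ (U : Over S) (q : D.obj.left ⟶ U.left), IsDescended D U q ∧ Scheme.IsQuasiAffine U.left ∧
      (IsAffine D.obj.left → IsAffine U.left) := by
  obtain ⟨U, hU, g, r, sq, hg, hr⟩ := exists_affinization D
  set j := D.obj.left.toSpecΓ
  have hr_surj : Surjective r := MorphismProperty.of_isPullback sq ‹Surjective p›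
  have hr_flat : Flat r := MorphismProperty.of_isPullback sq ‹Flat p›
  have hr_qc : QuasiCompact r := MorphismProperty.of_isPullback sq (inferInstanceAs (QuasiCompact p))
  -- the range of `j` is saturated
  have hsat : r ⁻¹' (r '' Set.range j) = Set.range j := by
    refine subset_antisymm ?_ (Set.subset_preimage_image _ _)
    rintro z ⟨_, ⟨v, rfl⟩, hz⟩
    obtain ⟨t, ht₁, ht₂⟩ := Scheme.Pullback.exists_preimage_pullback (f := j ≫ r) (g := r) v z
      (by simpa using hz)
    let a : pullback (j ≫ r) r ⟶ D.obj.left := pullback.fst _ _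
    let b : pullback (j ≫ r) r ⟶ Spec Γ(D.obj.left, ⊤) := pullback.snd _ _
    have hc : a ≫ j ≫ r = b ≫ r := pullback.condition
    have hp : a ≫ D.obj.hom ≫ p = (b ≫ g) ≫ p := by
      rw [Category.assoc, sq.w, ← reassoc_of% hc, ← sq.w, reassoc_of% hg]
    have : b = (pullback.lift a (b ≫ g) hp ≫ act D) ≫ j := sq.hom_ext
      (by rw [Category.assoc, Category.assoc, hg, act_hom, pullback.lift_snd])
      (by rw [Category.assoc, Category.assoc, ← hr, pullback.lift_fst_assoc, hc])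
    rw [← ht₂, show pullback.snd (j ≫ r) r = b from rfl, this, Scheme.Hom.comp_apply]
    exact ⟨_, rfl⟩
  let W : U.left.Opens := ⟨r '' Set.range j, by
    rw [← (Flat.isQuotientMap_of_surjective r).isOpen_preimage, hsat]
    exact j.isOpenEmbedding.isOpen_range⟩
  have hrange : Set.range (j ≫ r) ⊆ Set.range W.ι := by
    rw [Scheme.Opens.range_ι]
    rintro _ ⟨v, rfl⟩
    exact ⟨j v, ⟨v, rfl⟩, rfl⟩
  let q : D.obj.left ⟶ W := IsOpenImmersion.lift W.ι (j ≫ r) hrange
  have hq : q ≫ W.ι = j ≫ r := IsOpenImmersion.lift_fac _ _ _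
  have sqW : IsPullback j q r W.ι := by
    refine IsPullback.flip ?_
    refine IsOpenImmersion.isPullback _ _ _ _ hq.symm ?_
    rw [Scheme.Opens.opensRange_ι]
    ext z
    exact Set.ext_iff.1 hsat z
  have sqV : IsPullback D.obj.hom q p (W.ι ≫ U.hom) := by
    have := sqW.paste_horiz sq
    rwa [hg] at this
  have : CompactSpace W := by
    refine isCompact_iff_compactSpace.1 ?_
    exact (isCompact_range j.continuous).image r.continuous
  have : Scheme.IsQuasiAffine (W : Scheme.{u}) := Scheme.IsQuasiAffine.of_isImmersion W.ι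
  refine ⟨Over.mk (W.ι ≫ U.hom), q, ⟨sqV, ?_⟩, this, ?_⟩
  · rw [← cancel_mono W.ι, Category.assoc, Category.assoc, hq]
    exact hr
  · intro hV
    have hW : W = ⊤ := by
      ext x
      have : IsIso j := inferInstanceAs (IsIso D.obj.left.toSpecΓ)
      obtain ⟨z, rfl⟩ := r.surjective x
      obtain ⟨v, rfl⟩ := j.surjective z
      exact iff_of_true ⟨j v, ⟨v, rfl⟩, rfl⟩ trivial
    have : IsAffineOpen W := hW ▸ isAffineOpen_top U.left
    exact this

end Groth.Agent.Lib.FFDesc
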