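import Groth.Agent.Lib.FFDesc.Glue
import Mathlib.AlgebraicGeometry.Limits
import Groth.Prelude.Def_Mor2
import Groth.Agent.Lib.FFDesc.AffineBase
import Groth.Agent.Lib.FFDesc.Refine

/-!
# Effective descent for quasi-affine schemes (FFDesc, part 7)
-/

universe u

open CategoryTheory CategoryTheory.Limits AlgebraicGeometry TopologicalSpace

namespace Groth.Agent.Lib.FFDesc

/-- The pullback of `h` to a finite coproduct of opens with quasi-affine preimages is
quasi-affine. -/
theorem isQuasiAffine_pullback_sigmaDesc {V X : Scheme.{u}} (h : V ⟶ X) {ι : Type u} [Finite ι]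
    (U : ι → X.Opens) (hq : ∀ i, Scheme.IsQuasiAffine (h ⁻¹ᵁ U i : Scheme.{u})) :
    Scheme.IsQuasiAffine (pullback h (Sigma.desc fun i ↦ (U i).ι)) := by
  let r := Sigma.desc fun i ↦ (U i).ι
  let P : ι → Scheme.{u} := fun i ↦ (h ⁻¹ᵁ U i : Scheme.{u})
  let g : ∀ i, P i ⟶ pullback h r := fun i ↦
    pullback.lift (h ⁻¹ᵁ U i).ι ((h ∣_ U i) ≫ Sigma.ι (fun i ↦ (U i : Scheme.{u})) i)
      (by simp [r, morphismRestrict_ι])
  have sq : ∀ i, IsPullback (g i) (h ∣_ U i) (pullback.snd h r)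
      (Sigma.ι (fun i ↦ (U i : Scheme.{u})) i) := fun i ↦ by
    refine IsPullback.of_right ?_ (pullback.lift_snd _ _ _) (IsPullback.of_hasPullback h r)
    rw [pullback.lift_fst, Sigma.ι_desc]
    exact (isPullback_morphismRestrict h (U i)).flip
  have hg : ∀ i, IsOpenImmersion (g i) := fun i ↦
    MorphismProperty.of_isPullback (sq i).flip inferInstance
  have hrange : ∀ i z, z ∈ (g i).opensRange ↔
      pullback.snd h r z ∈ (Sigma.ι (fun i ↦ (U i : Scheme.{u})) i).opensRange := fun i z ↦ by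
    constructor
    · rintro ⟨y, rfl⟩
      exact ⟨(h ∣_ U i) y, by rw [← Scheme.Hom.comp_apply, ← Scheme.Hom.comp_apply, (sq i).w]⟩
    · rintro ⟨y, hy⟩
      obtain ⟨w, hw, -⟩ := Scheme.exists_preimage_of_isPullback (sq i) z y hy.symm
      exact ⟨w, hw⟩
  have hcov : ⨆ i, (g i).opensRange = ⊤ := by
    ext z
    simp only [Opens.coe_top, Set.mem_univ, iff_true, SetLike.mem_coe, Opens.mem_iSup]
    obtain ⟨i, y, hy⟩ :=
      (sigmaOpenCover fun i ↦ (U i : Scheme.{u})).exists_eq (pullback.snd h r z)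
    exact ⟨i, (hrange i z).2 ⟨y, hy⟩⟩
  have hdisj : Pairwise (Function.onFun Disjoint (g · |>.opensRange)) := fun i j hij ↦ by
    simp only [Function.onFun]
    rw [disjoint_iff_inf_le]
    intro z hz
    exact (disjoint_opensRange_sigmaι (fun i ↦ (U i : Scheme.{u})) i j hij).le_bot
      ⟨(hrange i z).1 hz.1, (hrange j z).1 hz.2⟩
  obtain ⟨hc⟩ := nonempty_isColimit_cofanMk_of g hcov hdisj
  let e : ∐ P ≅ pullback h r :=
    (coproductIsCoproduct P).coconePointUniqueUpToIso hc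
  let G : ι → Scheme.{u} := fun i ↦ Spec Γ(P i, ⊤)
  let m : ∐ P ⟶ ∐ G := Sigma.desc fun i ↦ (P i).toSpecΓ ≫ Sigma.ι G i
  have : ∀ i, IsOpenImmersion ((P i).toSpecΓ) := fun i ↦
    have := hq i
    inferInstance
  have : IsOpenImmersion m := isOpenImmersion_sigmaDesc _ _ fun i j hij ↦ by
    simp only [Function.onFun]
    rw [Set.disjoint_iff]
    rintro z ⟨⟨a, ha⟩, b, hb⟩
    exact ((disjoint_opensRange_sigmaι G i j hij).le_bot
      (⟨⟨_, (Scheme.Hom.comp_apply _ _ _).symm.trans ha⟩,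
        ⟨_, (Scheme.Hom.comp_apply _ _ _).symm.trans hb⟩⟩ :
          z ∈ (Sigma.ι G i).opensRange ⊓ (Sigma.ι G j).opensRange)).elim
  have : CompactSpace ↥(pullback h r) := by
    refine ⟨?_⟩
    have e : (Set.univ : Set ↥(pullback h r)) = ⋃ i, Set.range (g i) := by
      have := congrArg (fun O : (pullback h r).Opens ↦ (O : Set ↥(pullback h r))) hcov
      simpa using this.symm
    rw [e]
    exact isCompact_iUnion fun i ↦
      have := hq i
      isCompact_range (g i).continuous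
  exact Scheme.IsQuasiAffine.of_isImmersion (e.inv ≫ m)

section Main

variable {X S : Scheme.{u}} {p : X ⟶ S} (D : Desc.SchDD p)

theorem exists_isDescended_piece (hp : fpqcCover p) (hD : Mor2.IsQuasiAffine D.obj.hom)
    (W : S.Opens) (hW : IsAffineOpen W) :
    ∃ (U : Over (W : Scheme.{u})) (q : pullback D.obj.hom (pullback.fst p W.ι) ⟶ U.left),
      IsDescended (piece D W) U q ∧ Scheme.IsQuasiAffine U.left ∧
        (IsAffineHom D.obj.hom → IsAffine U.left) := by
  have : IsAffine (W : Scheme.{u}) := hW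
  let pW := pullback.snd p W.ι
  have hpW : fpqcCover pW := MorphismProperty.of_isPullback (IsPullback.of_hasPullback _ _) hp
  have := hpW.quasiCompactCover
  have := hpW.flat
  obtain ⟨n, a, O, hO, hcov⟩ := QuasiCompactCover.exists_isAffineOpen_of_isCompact
    (PreZeroHypercover.singleton.{0} pW) (U := (⊤ : Scheme.Opens (W : Scheme.{u}))) isCompact_univ
  let O' : ULift.{u} (Fin n) → (pullback p W.ι).Opens := fun i ↦ O i.down
  let X' := ∐ fun i ↦ (O' i : Scheme.{u})
  have : ∀ i, IsAffine (O' i : Scheme.{u}) := fun i ↦ hO i.down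
  let r : X' ⟶ pullback p W.ι := Sigma.desc fun i ↦ (O' i).ι
  let p' := r ≫ pW
  have : Flat r := IsZariskiLocalAtSource.sigmaDesc fun i ↦ inferInstance
  have : Flat p' := inferInstanceAs (Flat (r ≫ pW))
  have : Surjective p' := ⟨fun s ↦ by
    have hs : s ∈ ⋃ i, (PreZeroHypercover.singleton.{0} pW).f (a i) '' (O i : Set _) := by
      rw [hcov]; trivial
    obtain ⟨i, y, hy, rfl⟩ := Set.mem_iUnion.1 hs
    refine ⟨Sigma.ι (fun i ↦ (O' i : Scheme.{u})) ⟨i⟩ ⟨y, hy⟩, ?_⟩
    rw [← Scheme.Hom.comp_apply]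
    change (Sigma.ι (fun i ↦ (O' i : Scheme.{u})) ⟨i⟩ ≫ r ≫ pW) ⟨y, hy⟩ = _
    rw [Sigma.ι_desc_assoc]
    rfl⟩
  let D'' := restrict (piece D W) p' r (𝟙 _) (Category.comp_id _)
  let hWh := pullback.snd D.obj.hom (pullback.fst p W.ι)
  have : IsOpenImmersion (pullback.fst p W.ι) :=
    MorphismProperty.of_isPullback (IsPullback.of_hasPullback _ _).flip inferInstance
  have hq : ∀ i, Scheme.IsQuasiAffine ((hWh ⁻¹ᵁ O' i) : Scheme.{u}) := fun i ↦ by
    have e := IsOpenImmersion.image_preimage_eq_preimage_image_of_isPullback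
      (IsPullback.of_hasPullback D.obj.hom (pullback.fst p W.ι)).flip (O' i)
    have haff : IsAffineOpen ((pullback.fst p W.ι) ''ᵁ O' i) :=
      IsAffineOpen.image_of_isOpenImmersion (show IsAffineOpen (O' i) from hO i.down) (pullback.fst p W.ι)
    have hqa := hD.2 _ haff
    rw [← e] at hqa
    let iso := (pullback.fst D.obj.hom (pullback.fst p W.ι)).isoImage (hWh ⁻¹ᵁ O' i)
    have : CompactSpace ↥(hWh ⁻¹ᵁ O' i).toScheme := iso.hom.homeomorph.symm.compactSpace
    exact Scheme.IsQuasiAffine.of_isImmersion iso.hom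
  have hQA : Scheme.IsQuasiAffine D''.obj.left := isQuasiAffine_pullback_sigmaDesc hWh O' hq
  obtain ⟨U, q', H', hUqa, hUaff⟩ := exists_isDescended_of_quasiAffine D''
  obtain ⟨q, hq'⟩ := exists_isDescended_of_restrict (D := piece D W) p' r rfl
    (fpqcCover_of_quasiCompact p') H'
  refine ⟨U, q, hq', hUqa, fun h ↦ hUaff ?_⟩
  have : IsAffineHom hWh := MorphismProperty.of_isPullback (IsPullback.of_hasPullback _ _) h
  have : IsAffineHom (pullback.snd hWh r) :=
    MorphismProperty.of_isPullback (IsPullback.of_hasPullback _ _) ‹IsAffineHom hWh›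
  exact @isAffine_of_isAffineHom _ _ (pullback.snd hWh r) this inferInstance

/-- Quasi-affine descent data relative to fpqc covers are effective. -/
theorem exists_isDescended (hp : fpqcCover p) (hD : Mor2.IsQuasiAffine D.obj.hom) :
    ∃ (U : Over S) (q : D.obj.left ⟶ U.left), IsDescended D U q ∧ Mor2.IsQuasiAffine U.hom ∧
      (IsAffineHom D.obj.hom → IsAffineHom U.hom) := by
  have hex := fun W : S.affineOpens ↦ exists_isDescended_piece D hp hD W.1 W.2
  choose UW qW HW hqaW haffW using hex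
  obtain ⟨U, q, H, hiso⟩ := exists_isDescended_of_pieces D hp UW qW HW
  have hQA : ∀ i : S.affineOpens, Scheme.IsQuasiAffine (U.hom ⁻¹ᵁ i.1 : Scheme.{u}) := fun i ↦ by
    obtain ⟨e⟩ := hiso i
    have := hqaW i
    have : CompactSpace ↥(U.hom ⁻¹ᵁ i.1).toScheme := e.hom.homeomorph.compactSpace
    exact Scheme.IsQuasiAffine.of_isImmersion e.inv
  refine ⟨U, q, H, ⟨?_, fun V hV ↦ hQA ⟨V, hV⟩⟩, fun ha ↦ ⟨fun V hV ↦ ?_⟩⟩
  · rw [quasiCompact_iff_forall_isAffineOpen]
    intro V hV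
    exact isCompact_iff_compactSpace.2 (hQA ⟨V, hV⟩).toCompactSpace
  · obtain ⟨e⟩ := hiso ⟨V, hV⟩
    have := haffW ⟨V, hV⟩ ha
    exact IsAffine.of_isIso e.inv

end Main

end Groth.Agent.Lib.FFDesc
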