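import Groth.Agent.Lib.FFDesc.Points

/-!
# Invariant opens of a descent datum (FFDesc, part 9)
-/

universe u

open CategoryTheory CategoryTheory.Limits AlgebraicGeometry TopologicalSpace

namespace Groth.Agent.Lib.FFDesc

variable {X S : Scheme.{u}} {p : X ⟶ S} (D : Desc.SchDD p)

/-- An open of the underlying scheme is invariant under the descent datum. -/
def Invariant (O : D.obj.left.Opens) : Prop := pr D ⁻¹ᵁ O = act D ⁻¹ᵁ O

theorem Invariant.inf {O O' : D.obj.left.Opens} (h : Invariant D O) (h' : Invariant D O') :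
    Invariant D (O ⊓ O') := by
  unfold Invariant at *
  rw [Scheme.Hom.preimage_inf, Scheme.Hom.preimage_inf, h, h']

theorem Invariant.mem_iff {O : D.obj.left.Opens} (h : Invariant D O) (t : ↥(V₂ D)) :
    pr D t ∈ O ↔ act D t ∈ O :=
  iff_of_eq (congrArg (t ∈ ·) h)

theorem Invariant.range_tr {O : D.obj.left.Opens} (hO : Invariant D O) {T : Scheme.{u}}
    (v : T ⟶ D.obj.left) (x : T ⟶ X) (h : v ≫ D.obj.hom ≫ p = x ≫ p)
    (hv : Set.range v ⊆ (O : Set D.obj.left)) :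
    Set.range (tr D v x h) ⊆ (O : Set D.obj.left) := by
  rintro _ ⟨t, rfl⟩
  have h1 : pr D (pullback.lift v x h t) ∈ O := by
    rw [← Scheme.Hom.comp_apply, pullback.lift_fst]
    exact hv ⟨t, rfl⟩
  exact ((hO.mem_iff D _).1 h1)

variable {O : D.obj.left.Opens} (hO : Invariant D O)

include hO in
theorem range_φ_subset {T : Scheme.{u}} {x₀ x₁ : T ⟶ X} (h : x₀ ≫ p = x₁ ≫ p)
    (v : Desc.Lifts (Over.mk (O.ι ≫ D.obj.hom)) x₀) :
    Set.range (D.φ x₀ x₁ h ⟨v.1 ≫ O.ι, (Category.assoc _ _ _).trans v.2⟩).1 ⊆ Set.range O.ι := by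
  rw [φ_eq_tr, Scheme.Opens.range_ι]
  refine hO.range_tr D _ _ _ ?_
  rintro _ ⟨t, rfl⟩
  rw [Scheme.Hom.comp_apply]
  exact Subtype.coe_prop _

/-- The points map of the datum restricted to an invariant open. -/
noncomputable def subMap {T : Scheme.{u}} (x₀ x₁ : T ⟶ X) (h : x₀ ≫ p = x₁ ≫ p)
    (v : Desc.Lifts (Over.mk (O.ι ≫ D.obj.hom)) x₀) :
    Desc.Lifts (Over.mk (O.ι ≫ D.obj.hom)) x₁ :=
  ⟨IsOpenImmersion.lift O.ι _ (range_φ_subset D hO h v),
    ((Category.assoc _ _ _).symm.trans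
      (congrArg (· ≫ D.obj.hom) (IsOpenImmersion.lift_fac _ _ _))).trans (D.φ x₀ x₁ h _).2⟩

@[reassoc]
theorem subMap_ι {T : Scheme.{u}} (x₀ x₁ : T ⟶ X) (h : x₀ ≫ p = x₁ ≫ p)
    (v : Desc.Lifts (Over.mk (O.ι ≫ D.obj.hom)) x₀) :
    (subMap D hO x₀ x₁ h v).1 ≫ O.ι =
      (D.φ x₀ x₁ h ⟨v.1 ≫ O.ι, (Category.assoc _ _ _).trans v.2⟩).1 :=
  IsOpenImmersion.lift_fac _ _ _

theorem subMap_self {T : Scheme.{u}} (x : T ⟶ X) (v : Desc.Lifts (Over.mk (O.ι ≫ D.obj.hom)) x) :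
    subMap D hO x x rfl v = v :=
  Subtype.ext ((cancel_mono O.ι).1 ((subMap_ι D hO x x rfl v).trans
    (congrArg Subtype.val (D.φ_self x _))))

theorem subMap_comp {T : Scheme.{u}} (x₀ x₁ x₂ : T ⟶ X) (h₀₁ : x₀ ≫ p = x₁ ≫ p)
    (h₁₂ : x₁ ≫ p = x₂ ≫ p) (v : Desc.Lifts (Over.mk (O.ι ≫ D.obj.hom)) x₀) :
    subMap D hO x₁ x₂ h₁₂ (subMap D hO x₀ x₁ h₀₁ v) = subMap D hO x₀ x₂ (h₀₁.trans h₁₂) v := by
  refine Subtype.ext ((cancel_mono O.ι).1 ((subMap_ι D hO _ _ _ _).trans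
    (Eq.trans ?_ (subMap_ι D hO _ _ _ v).symm)))
  rw [← D.φ_comp x₀ x₁ x₂ h₀₁ h₁₂]
  exact congrArg (fun w ↦ (D.φ x₁ x₂ h₁₂ w).1) (Subtype.ext (subMap_ι D hO _ _ _ v))

/-- The restriction of a descent datum to an invariant open. -/
noncomputable def subDatum : Desc.SchDD p where
  obj := Over.mk (O.ι ≫ D.obj.hom)
  φ T x₀ x₁ h :=
    { toFun := subMap D hO x₀ x₁ h
      invFun := subMap D hO x₁ x₀ h.symm
      left_inv := fun v ↦ by rw [subMap_comp, subMap_self]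
      right_inv := fun v ↦ by rw [subMap_comp, subMap_self] }
  φ_natural T T' k x₀ x₁ h h' v v' hv := by
    refine (cancel_mono O.ι).1 ((subMap_ι D hO _ _ h' v').trans ?_)
    refine Eq.trans ?_ (((Category.assoc _ _ _).trans
      (congrArg (k ≫ ·) (subMap_ι D hO x₀ x₁ h v))).symm)
    exact D.φ_natural k x₀ x₁ h h' _ _ ((congrArg (· ≫ O.ι) hv).trans (Category.assoc _ _ _))
  φ_self T x v := subMap_self D hO x v
  φ_comp T x₀ x₁ x₂ h₀₁ h₁₂ v := subMap_comp D hO x₀ x₁ x₂ h₀₁ h₁₂ v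

theorem subDatum_tr_ι {T : Scheme.{u}} (v : T ⟶ (O : Scheme.{u})) (x : T ⟶ X)
    (h : v ≫ (O.ι ≫ D.obj.hom) ≫ p = x ≫ p) :
    tr (subDatum D hO) v x h ≫ O.ι =
      tr D (v ≫ O.ι) x (by simpa using h) := by
  have h' : (v ≫ O.ι ≫ D.obj.hom) ≫ p = x ≫ p := (Category.assoc _ _ _).trans h
  refine (congrArg (· ≫ O.ι) (φ_eq_tr (subDatum D hO) (v ≫ O.ι ≫ D.obj.hom) x h' ⟨v, rfl⟩)).symm.trans ?_
  exact (subMap_ι D hO (v ≫ O.ι ≫ D.obj.hom) x h' ⟨v, rfl⟩).trans (φ_eq_tr D _ _ _ _)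

theorem range_act_eq {T : Scheme.{u}} {a b : T ⟶ V₂ D} (h₁ : a ≫ act D = b ≫ pr D)
    (z : ↥T) : ∃ c : ↥(V₂ D), pr D c = pr D (a z) ∧ act D c = act D (b z) := by
  have hc : (a ≫ pr D) ≫ D.obj.hom ≫ p = (b ≫ pr₁ D) ≫ p := by
    rw [Category.assoc, pullback.condition, ← Category.assoc, Category.assoc b,
      ← pullback.condition, ← Category.assoc b, ← h₁, Category.assoc, Category.assoc,
      act_hom_assoc]
  refine ⟨pullback.lift (a ≫ pr D) (b ≫ pr₁ D) hc z, ?_, ?_⟩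
  · rw [← Scheme.Hom.comp_apply, pullback.lift_fst, Scheme.Hom.comp_apply]
  · have hb : b ≫ act D = tr D (a ≫ pr D) (b ≫ pr₁ D) hc := by
      rw [congrArg (b ≫ ·) (act_eq_tr D), comp_tr]
      have ha : a ≫ act D = tr D (a ≫ pr D) (a ≫ pr₁ D)
          (by rw [Category.assoc, Category.assoc]; exact congrArg (a ≫ ·) pullback.condition) :=
        (congrArg (a ≫ ·) (act_eq_tr D)).trans (comp_tr D a _ _ _)
      refine (tr_congr D _ (h₁.symm.trans ha) rfl).trans ?_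
      rw [tr_tr]
    rw [← Scheme.Hom.comp_apply, ← Scheme.Hom.comp_apply]
    exact congrArg (fun m : T ⟶ D.obj.left ↦ m z) hb.symm

/-- The saturation of an open. -/
noncomputable def saturation (ho : IsOpenMap (pr D)) (O : D.obj.left.Opens) : D.obj.left.Opens :=
  ⟨pr D '' (act D ⁻¹ᵁ O : Set ↥(V₂ D)), ho _ (act D ⁻¹ᵁ O).2⟩

theorem le_saturation (ho : IsOpenMap (pr D)) (O : D.obj.left.Opens) : O ≤ saturation D ho O := by
  intro v hv
  let Δ : D.obj.left ⟶ V₂ D := pullback.lift (𝟙 _) D.obj.hom (by simp)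
  have h1 : Δ ≫ pr D = 𝟙 _ := pullback.lift_fst _ _ _
  have h2 : Δ ≫ act D = 𝟙 _ := tr_self D _ _ (Category.id_comp _)
  refine ⟨Δ v, ?_, ?_⟩
  · change act D (Δ v) ∈ O
    rw [← Scheme.Hom.comp_apply, h2]
    exact hv
  · rw [← Scheme.Hom.comp_apply, h1]
    rfl

/-- The involution exchanging the two points of a related pair. -/
noncomputable def swap : V₂ D ⟶ V₂ D :=
  pullback.lift (act D) (pr D ≫ D.obj.hom)
    (by rw [act_hom_assoc, ← pullback.condition, Category.assoc])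

theorem swap_pr : swap D ≫ pr D = act D := pullback.lift_fst _ _ _

theorem swap_act : swap D ≫ act D = pr D := by
  have e : swap D ≫ act D = tr D (act D) (pr D ≫ D.obj.hom)
      (by rw [act_hom_assoc, ← pullback.condition, Category.assoc]) := rfl
  rw [e, tr_congr D _ (act_eq_tr D) rfl, tr_tr]
  exact tr_self D _ _ rfl

theorem swap_swap : swap D ≫ swap D = 𝟙 _ := by
  refine pullback.hom_ext ?_ ?_
  · rw [Category.assoc, Category.id_comp]
    exact (congrArg (swap D ≫ ·) (swap_pr D)).trans (swap_act D)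
  · rw [Category.assoc, Category.id_comp]
    refine (congrArg (swap D ≫ ·) (pullback.lift_snd _ _ _)).trans ?_
    rw [← Category.assoc, swap_pr, act_hom]

instance : IsIso (swap D) := ⟨swap D, swap_swap D, swap_swap D⟩

theorem invariant_saturation (ho : IsOpenMap (pr D)) (O : D.obj.left.Opens) :
    Invariant D (saturation D ho O) := by
  let σ := swap D
  have hσ₁ : σ ≫ pr D = act D := swap_pr D
  have hσ₂ : σ ≫ act D = pr D := swap_act D
  have step : ∀ t t' : ↥(V₂ D), act D t = pr D t' → act D t' ∈ O →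
      pr D t ∈ saturation D ho O := fun t t' htt' ht' ↦ by
    obtain ⟨z, hz₁, hz₂⟩ := Scheme.Pullback.exists_preimage_pullback (f := act D) (g := pr D) t t' htt'
    obtain ⟨c, hc₁, hc₂⟩ := range_act_eq D (a := pullback.fst (act D) (pr D))
      (b := pullback.snd (act D) (pr D)) pullback.condition z
    refine ⟨c, ?_, by rw [hc₁, hz₁]⟩
    change act D c ∈ O
    rwa [hc₂, hz₂]
  ext t
  constructor
  · rintro ⟨t', ht', he⟩
    change act D t ∈ saturation D ho O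
    rw [← hσ₁, Scheme.Hom.comp_apply]
    refine step (σ t) t' ?_ ht'
    rw [← Scheme.Hom.comp_apply, hσ₂, he]
  · rintro ⟨t', ht', he⟩
    exact step t t' he.symm ht'

theorem isCompact_saturation (ho : IsOpenMap (pr D)) [QuasiCompact (act D)]
    {O : D.obj.left.Opens} (hO : IsCompact (O : Set D.obj.left)) :
    IsCompact (saturation D ho O : Set D.obj.left) :=
  ((act D).isCompact_preimage hO).image (pr D).continuous

end Groth.Agent.Lib.FFDesc
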