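import Mathlib.AlgebraicGeometry.ZariskisMainTheorem
import Mathlib.AlgebraicGeometry.Morphisms.UniversallyOpen
import Groth.Agent.Lib.FFDesc.Effective
import Groth.Agent.Lib.FFDesc.SubDatum

/-!
# Separated, locally quasi-finite descent data are effective (FFDesc, part 10)
-/

universe u

open CategoryTheory CategoryTheory.Limits AlgebraicGeometry TopologicalSpace

namespace Groth.Agent.Lib.FFDesc

/-- Quasi-compact, separated, quasi-finite morphisms are quasi-affine (Zariski's main theorem). -/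
theorem isQuasiAffine_of_lqf {X Y : Scheme.{u}} (h : X ⟶ Y) [QuasiCompact h] [IsSeparated h]
    [LocallyQuasiFinite h] [LocallyOfFiniteType h] : Mor2.IsQuasiAffine h := by
  refine ⟨inferInstance, fun V hV ↦ ?_⟩
  let W := h.fromNormalization ⁻¹ᵁ V
  have e : h ⁻¹ᵁ V = h.toNormalization ⁻¹ᵁ W := by
    rw [← Scheme.Hom.comp_preimage, h.toNormalization_fromNormalization]
  have : IsAffine (W : Scheme.{u}) := hV.preimage h.fromNormalization
  have : IsOpenImmersion h.toNormalization := inferInstance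
  let j := (X.isoOfEq e).hom ≫ (h.toNormalization ∣_ W)
  have : CompactSpace ↥(h ⁻¹ᵁ V).toScheme :=
    isCompact_iff_compactSpace.1 (QuasiCompact.isCompact_preimage _ V.2 hV.isCompact)
  exact Scheme.IsQuasiAffine.of_isImmersion j

variable {X S : Scheme.{u}} {p : X ⟶ S}

theorem quasiCompact_act [QuasiCompact p] (D : Desc.SchDD p) : QuasiCompact (act D) := by
  rw [← swap_pr D]
  infer_instance

set_option backward.isDefEq.respectTransparency false in
/-- A descent datum covered by invariant quasi-compact opens on which it is effective is effective,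
over an affine base. -/
theorem exists_isDescended_of_opens [IsAffine X] [IsAffine S] [Flat p] [Surjective p]
    [LocallyOfFinitePresentation p] (D : Desc.SchDD p) [IsSeparated D.obj.hom]
    (hO : ∀ (O : D.obj.left.Opens) (hinv : Invariant D O), IsCompact (O : Set D.obj.left) →
      ∃ (U : Over S) (q : (O : Scheme.{u}) ⟶ U.left),
        IsDescended (subDatum D hinv) U q) :
    ∃ (U : Over S) (q : D.obj.left ⟶ U.left), IsDescended D U q := by
  have hp : fpqcCover p := fpqcCover_of_quasiCompact p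
  let V := D.obj.left
  let I := {O : V.Opens // Invariant D O ∧ IsCompact (O : Set V)}
  choose UO qO HO using fun O : I ↦ hO O.1 O.2.1 O.2.2
  have hopen : IsOpenMap (pr D) := by
    have : Flat (pr D) :=
      MorphismProperty.of_isPullback (IsPullback.of_hasPullback (D.obj.hom ≫ p) p).flip ‹Flat p›
    have : LocallyOfFinitePresentation (pr D) :=
      MorphismProperty.of_isPullback (IsPullback.of_hasPullback (D.obj.hom ≫ p) p).flip
        ‹LocallyOfFinitePresentation p›
    exact (pr D).isOpenMap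
  have := quasiCompact_act D
  have hcov : ∀ v : V, ∃ O : I, v ∈ O.1 := fun v ↦ by
    obtain ⟨A, hA, hv, -⟩ := Opens.isBasis_iff_nbhd.mp V.isBasis_affineOpens (Opens.mem_top v)
    exact ⟨⟨saturation D hopen A, invariant_saturation D hopen A,
      isCompact_saturation D hopen hA.isCompact⟩, le_saturation D hopen A hv⟩
  have : QuasiSeparatedSpace V := quasiSeparatedSpace_of_quasiSeparated D.obj.hom
  have hinf : ∀ a b : I, Invariant D (a.1 ⊓ b.1) ∧ IsCompact ((a.1 ⊓ b.1 : V.Opens) : Set V) :=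
    fun a b ↦ ⟨a.2.1.inf D b.2.1, QuasiSeparatedSpace.inter_isCompact _ _ a.1.2 a.2.2 b.1.2 b.2.2⟩
  -- transition maps
  have hl : ∀ (a b : I) (hab : a ≤ b),
      ∃ l : (UO a).left ⟶ (UO b).left, qO a ≫ l = V.homOfLE hab ≫ qO b := fun a b hab ↦ by
    refine (HO a).exists_desc hp _ ?_
    let v : V₂ (subDatum D a.2.1) ⟶ (a.1 : Scheme.{u}) := pr (subDatum D a.2.1)
    let x : V₂ (subDatum D a.2.1) ⟶ X := pr₁ (subDatum D a.2.1)
    have hv : v ≫ (a.1.ι ≫ D.obj.hom) ≫ p = x ≫ p := pullback.condition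
    have hv' : (v ≫ V.homOfLE hab) ≫ (b.1.ι ≫ D.obj.hom) ≫ p = x ≫ p := by
      rw [← hv]; simp
    have e : act (subDatum D a.2.1) ≫ V.homOfLE hab =
        tr (subDatum D b.2.1) (v ≫ V.homOfLE hab) x hv' := by
      refine (cancel_mono b.1.ι).1 ?_
      refine Eq.trans ?_ (subDatum_tr_ι D b.2.1 _ x hv').symm
      refine ((Category.assoc _ _ _).trans (congrArg (act (subDatum D a.2.1) ≫ ·)
        (V.homOfLE_ι hab))).trans ?_
      refine (congrArg (· ≫ a.1.ι) (act_eq_tr (subDatum D a.2.1))).trans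
        ((subDatum_tr_ι D a.2.1 v x hv).trans ?_)
      exact tr_congr D _ ((congrArg (v ≫ ·) (V.homOfLE_ι hab).symm).trans (Category.assoc _ _ _).symm) rfl
    refine Eq.trans ?_ ((congrArg (· ≫ qO b) e.symm).trans (Category.assoc _ _ _))
    exact (Category.assoc _ _ _).symm.trans ((HO b).tr_comp _ (v ≫ V.homOfLE hab) x hv').symm
  choose l hl using hl
  have Hw : ∀ a : I, (a.1.ι ≫ D.obj.hom) ≫ p = qO a ≫ (UO a).hom := fun a ↦ (HO a).isPullback.w
  have Hext : ∀ (a : I) {Z : Scheme.{u}} {f g : (UO a).left ⟶ Z},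
      qO a ≫ f = qO a ≫ g → f = g := fun a _ _ _ e ↦ (HO a).hom_ext hp e
  have Hpb : ∀ a : I, IsPullback (a.1.ι ≫ D.obj.hom) (qO a) p (UO a).hom :=
    fun a ↦ (HO a).isPullback
  have hlw : ∀ (a b : I) (hab : a ≤ b), l a b hab ≫ (UO b).hom = (UO a).hom := fun a b hab ↦ by
    refine Hext a ?_
    rw [← Category.assoc, hl a b hab, Category.assoc, ← Hw b, ← Hw a]
    simp
  have hlsq : ∀ (a b : I) (hab : a ≤ b),
      IsPullback (V.homOfLE hab) (qO a) (qO b) (l a b hab) := fun a b hab ↦ by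
    refine IsPullback.of_right ?_ (hl a b hab).symm (Hpb b)
    rw [hlw, V.homOfLE_ι_assoc]
    exact Hpb a
  have hlo : ∀ (a b : I) (hab : a ≤ b), IsOpenImmersion (l a b hab) := fun a b hab ↦ by
    have hq : (@Surjective ⊓ @Flat ⊓ @QuasiCompact : MorphismProperty Scheme.{u}) (qO b) :=
      MorphismProperty.of_isPullback (P := (@Surjective ⊓ @Flat ⊓ @QuasiCompact : MorphismProperty Scheme.{u})) (Hpb b)
        ⟨⟨‹Surjective p›, ‹Flat p›⟩, inferInstanceAs (QuasiCompact p)⟩
    exact MorphismProperty.of_isPullback_of_descendsAlong (P := @IsOpenImmersion)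
      (hlsq a b hab) hq (inferInstanceAs (IsOpenImmersion (V.homOfLE hab)))
  have hmem : ∀ (a b : I) (hab : a ≤ b) (v : (b.1 : Scheme.{u})) (u : (UO a).left),
      l a b hab u = qO b v → b.1.ι v ∈ a.1 := fun a b hab v u e ↦ by
    obtain ⟨w, hw, -⟩ := Scheme.exists_preimage_of_isPullback (hlsq a b hab) v u e.symm
    rw [← hw, ← Scheme.Hom.comp_apply, V.homOfLE_ι]
    exact w.2
  have hsurj : ∀ a : I, Function.Surjective (qO a) := fun a ↦
    ((HO a).cover hp).surjective.surj
  let F : I ⥤ Scheme.{u} :=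
    { obj a := (UO a).left
      map {a b} f := l a b (leOfHom f)
      map_id a := Hext a (by rw [hl, Category.comp_id]; simp)
      map_comp {a b c} f g := Hext a (by
        rw [hl, ← Category.assoc, hl, Category.assoc, hl, V.homOfLE_homOfLE_assoc]) }
  have hFo : ∀ {a b : I} (f : a ⟶ b), IsOpenImmersion (F.map f) := fun f ↦ hlo _ _ (leOfHom f)
  have hFd : (F ⋙ Scheme.forget).IsLocallyDirected := by
    refine ⟨fun {i j k} fi fj xi xj he ↦ ?_⟩
    simp only [Functor.comp_obj, Scheme.forget_obj, Functor.comp_map, Scheme.forget_map] at he xi xj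
    have he' : l i k (leOfHom fi) xi = l j k (leOfHom fj) xj := he
    obtain ⟨v, hv⟩ := hsurj k (l i k (leOfHom fi) xi)
    have h1 : k.1.ι v ∈ i.1 := hmem i k _ v xi hv.symm
    have h2 : k.1.ι v ∈ j.1 := hmem j k _ v xj (he'.symm.trans hv.symm)
    let m : I := ⟨i.1 ⊓ j.1, hinf i j⟩
    have hmi : m ≤ i := inf_le_left (a := i.1) (b := j.1)
    have hmj : m ≤ j := inf_le_right (a := i.1) (b := j.1)
    let w : (m.1 : Scheme.{u}) := ⟨k.1.ι v, h1, h2⟩
    have hwv : ∀ hmk : m ≤ k, V.homOfLE hmk w = v := fun hmk ↦ by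
      apply k.1.ι.injective
      rw [← Scheme.Hom.comp_apply, V.homOfLE_ι]
      rfl
    have hk : ∀ (n : I) (hmn : m ≤ n) (hnk : n ≤ k),
        l n k hnk (l m n hmn (qO m w)) = qO k v := fun n hmn hnk ↦ by
      rw [← Scheme.Hom.comp_apply, ← Scheme.Hom.comp_apply, ← Category.assoc, hl, Category.assoc,
        hl, V.homOfLE_homOfLE_assoc, Scheme.Hom.comp_apply, hwv]
    refine ⟨m, homOfLE hmi, homOfLE hmj, qO m w, ?_, ?_⟩
    · exact (hlo i k (leOfHom fi)).base_open.injective ((hk i hmi _).trans hv)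
    · exact (hlo j k (leOfHom fj)).base_open.injective (((hk j hmj _).trans hv).trans he')
  let 𝒰 := Scheme.IsLocallyDirected.openCover F
  let hom : colimit F ⟶ S := colimit.desc F
    { pt := S
      ι := { app a := (UO a).hom
             naturality a b f := (hlw a b (leOfHom f)).trans (Category.comp_id _).symm } }
  have hιhom : ∀ a : I, colimit.ι F a ≫ hom = (UO a).hom := fun a ↦ colimit.ι_desc _ a
  have hhomOfLE : ∀ (a b : I) (hab : a ≤ b),
      V.homOfLE hab ≫ qO b ≫ colimit.ι F b = qO a ≫ colimit.ι F a := fun a b hab ↦ by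
    rw [← reassoc_of% hl a b hab]
    exact congrArg (qO a ≫ ·) (colimit.w F (homOfLE hab))
  let 𝒱 : V.OpenCover := V.openCoverOfIsOpenCover (fun a : I ↦ a.1)
    (top_le_iff.1 fun v _ ↦ by
      obtain ⟨a, ha⟩ := hcov v
      exact Opens.mem_iSup.2 ⟨a, ha⟩)
  obtain ⟨q, hq⟩ : ∃ q : V ⟶ colimit F, ∀ a : I, a.1.ι ≫ q = qO a ≫ colimit.ι F a := by
    refine ⟨𝒱.glueMorphisms (fun a ↦ qO a ≫ colimit.ι F a) ?hc,
      fun a ↦ 𝒱.ι_glueMorphisms _ ?hc a⟩
    intro (a : I) (b : I)
    let m : I := ⟨a.1 ⊓ b.1, hinf a b⟩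
    have hsub : Set.range (pullback.fst a.1.ι b.1.ι ≫ a.1.ι) ⊆ Set.range m.1.ι := by
      rw [Scheme.Opens.range_ι]
      rintro _ ⟨z, rfl⟩
      refine ⟨?_, ?_⟩
      · rw [Scheme.Hom.comp_apply]; exact Subtype.coe_prop _
      · rw [pullback.condition, Scheme.Hom.comp_apply]; exact Subtype.coe_prop _
    let k := IsOpenImmersion.lift m.1.ι _ hsub
    have hk : k ≫ m.1.ι = pullback.fst a.1.ι b.1.ι ≫ a.1.ι := IsOpenImmersion.lift_fac _ _ _
    have hma : m ≤ a := inf_le_left (a := a.1) (b := b.1)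
    have hmb : m ≤ b := inf_le_right (a := a.1) (b := b.1)
    have ea : k ≫ V.homOfLE hma = pullback.fst a.1.ι b.1.ι := by
      rw [← cancel_mono a.1.ι, Category.assoc, V.homOfLE_ι, hk]
    have eb : k ≫ V.homOfLE hmb = pullback.snd a.1.ι b.1.ι := by
      rw [← cancel_mono b.1.ι, Category.assoc, V.homOfLE_ι, hk, pullback.condition]
    change pullback.fst a.1.ι b.1.ι ≫ _ = pullback.snd a.1.ι b.1.ι ≫ _
    rw [← ea, ← eb, Category.assoc, Category.assoc, hhomOfLE, hhomOfLE]
  have hqsq : ∀ a : I, IsPullback (qO a) a.1.ι (colimit.ι F a) q := fun a ↦ by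
    refine IsOpenImmersion.isPullback _ _ _ _ (hq a) ?_
    ext v
    rw [Scheme.Opens.opensRange_ι]
    constructor
    · rintro ⟨u, hu⟩
      obtain ⟨b, hb⟩ := hcov v
      have hqv : q v = colimit.ι F b (qO b ⟨v, hb⟩) := by
        rw [← Scheme.Hom.comp_apply, ← hq b]
        rfl
      obtain ⟨c, fa, fb, y, -, hy⟩ :=
        (Scheme.IsLocallyDirected.ι_eq_ι_iff F).1 (hu.trans hqv)
      exact leOfHom fa (hmem c b (leOfHom fb) ⟨v, hb⟩ y hy)
    · intro hv
      exact ⟨qO a ⟨v, hv⟩, by rw [← Scheme.Hom.comp_apply, ← hq a]; rfl⟩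
  refine ⟨Over.mk hom, q, ⟨?_, ?_⟩⟩
  · refine (Scheme.isPullback_of_openCover q D.obj.hom hom p 𝒰 fun (a : I) ↦ ?_).flip
    have big : IsPullback (qO a) (a.1.ι ≫ D.obj.hom) (colimit.ι F a ≫ hom) p := by
      rw [hιhom]
      exact (Hpb a).flip
    refine big.of_iso ((hqsq a).flip.isoPullback) (Iso.refl _) (Iso.refl _) (Iso.refl _)
      ?_ ?_ (by simp [𝒰]) (by simp)
    · exact (Category.comp_id _).trans (hqsq a).flip.isoPullback_hom_snd.symm
    · refine (Category.comp_id _).trans ?_
      exact ((congrArg (· ≫ D.obj.hom) (hqsq a).flip.isoPullback_hom_fst).symm).trans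
        (Category.assoc _ _ _)
  · refine Scheme.Cover.hom_ext (𝒱.pullback₁ (pr D)) _ _ fun (a : I) ↦ ?_
    let π := pullback.fst (pr D) a.1.ι
    let σ := pullback.snd (pr D) a.1.ι
    change π ≫ pr D ≫ q = π ≫ act D ≫ q
    have h0 : π ≫ pr D = σ ≫ a.1.ι := pullback.condition
    have hx : σ ≫ (a.1.ι ≫ D.obj.hom) ≫ p = (π ≫ pr₁ D) ≫ p := by
      rw [Category.assoc, Category.assoc, ← reassoc_of% h0]
      exact congrArg (π ≫ ·) pullback.condition
    let k := tr (subDatum D a.2.1) σ (π ≫ pr₁ D) hx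
    have hk : k ≫ a.1.ι = π ≫ act D := by
      refine (subDatum_tr_ι D a.2.1 σ (π ≫ pr₁ D) hx).trans ?_
      rw [congrArg (π ≫ ·) (act_eq_tr D), comp_tr]
      exact tr_congr D _ h0.symm rfl
    rw [reassoc_of% h0, ← reassoc_of% hk, hq a, ← Category.assoc, ← Category.assoc]
    exact congrArg (· ≫ colimit.ι F a) ((HO a).tr_comp _ σ _ hx).symm

/-- Separated, locally quasi-finite descent data are effective along fppf covers. -/
theorem exists_isDescended_of_lqf [Flat p] [Surjective p] [LocallyOfFinitePresentation p]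
    (D : Desc.SchDD p) [IsSeparated D.obj.hom] [LocallyQuasiFinite D.obj.hom]
    [LocallyOfFiniteType D.obj.hom] :
    ∃ (U : Over S) (q : D.obj.left ⟶ U.left), IsDescended D U q := by
  have hp : fpqcCover p := fpqcCover_of_lfp p
  have hex : ∀ W : S.affineOpens, ∃ (U : Over (W.1 : Scheme.{u}))
      (q : pullback D.obj.hom (pullback.fst p W.1.ι) ⟶ U.left),
      IsDescended (piece D W.1) U q := fun W ↦ by
    have : IsAffine (W.1 : Scheme.{u}) := W.2
    let pW := pullback.snd p W.1.ι
    have : Flat pW := MorphismProperty.of_isPullback (IsPullback.of_hasPullback _ _) ‹Flat p›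
    have : LocallyOfFinitePresentation pW :=
      MorphismProperty.of_isPullback (IsPullback.of_hasPullback _ _)
        ‹LocallyOfFinitePresentation p›
    have : Surjective pW :=
      MorphismProperty.of_isPullback (IsPullback.of_hasPullback _ _) ‹Surjective p›
    have := (fpqcCover_of_lfp pW).quasiCompactCover
    obtain ⟨n, a, O, hO, hcov⟩ := QuasiCompactCover.exists_isAffineOpen_of_isCompact
      (PreZeroHypercover.singleton.{0} pW) (U := (⊤ : Scheme.Opens (W.1 : Scheme.{u})))
      isCompact_univ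
    let O' : ULift.{u} (Fin n) → (pullback p W.1.ι).Opens := fun i ↦ O i.down
    let X' := ∐ fun i ↦ (O' i : Scheme.{u})
    have : ∀ i, IsAffine (O' i : Scheme.{u}) := fun i ↦ hO i.down
    let r : X' ⟶ pullback p W.1.ι := Sigma.desc fun i ↦ (O' i).ι
    have : Flat r := IsZariskiLocalAtSource.sigmaDesc fun i ↦ inferInstance
    have : LocallyOfFinitePresentation r :=
      IsZariskiLocalAtSource.sigmaDesc (P := @LocallyOfFinitePresentation) fun i ↦ inferInstance
    let p' := r ≫ pW
    have : Flat p' := inferInstanceAs (Flat (r ≫ pW))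
    have : LocallyOfFinitePresentation p' :=
      inferInstanceAs (LocallyOfFinitePresentation (r ≫ pW))
    have : Surjective p' := ⟨fun s ↦ by
      have hs : s ∈ ⋃ i, (PreZeroHypercover.singleton.{0} pW).f (a i) '' (O i : Set _) := by
        rw [hcov]; trivial
      obtain ⟨i, y, hy, rfl⟩ := Set.mem_iUnion.1 hs
      refine ⟨Sigma.ι (fun i ↦ (O' i : Scheme.{u})) ⟨i⟩ ⟨y, hy⟩, ?_⟩
      rw [← Scheme.Hom.comp_apply]
      change (Sigma.ι (fun i ↦ (O' i : Scheme.{u})) ⟨i⟩ ≫ r ≫ pW) ⟨y, hy⟩ = _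
      rw [Sigma.ι_desc_assoc]
      rfl⟩
    let D'' := restrict (piece D W.1) p' r (𝟙 _) (Category.comp_id _)
    let hW := pullback.snd D.obj.hom (pullback.fst p W.1.ι)
    have sep : IsSeparated D''.obj.hom :=
      MorphismProperty.of_isPullback (IsPullback.of_hasPullback hW r)
        (MorphismProperty.of_isPullback (IsPullback.of_hasPullback _ _) ‹IsSeparated D.obj.hom›)
    have lqf : LocallyQuasiFinite D''.obj.hom :=
      MorphismProperty.of_isPullback (IsPullback.of_hasPullback hW r)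
        (MorphismProperty.of_isPullback (IsPullback.of_hasPullback _ _)
          ‹LocallyQuasiFinite D.obj.hom›)
    have lft : LocallyOfFiniteType D''.obj.hom :=
      MorphismProperty.of_isPullback (IsPullback.of_hasPullback hW r)
        (MorphismProperty.of_isPullback (IsPullback.of_hasPullback _ _)
          ‹LocallyOfFiniteType D.obj.hom›)
    obtain ⟨U, q', H'⟩ := exists_isDescended_of_opens D'' fun Oo hinv hc ↦ by
      let j := Oo.ι ≫ D''.obj.hom
      have : CompactSpace ↥Oo.toScheme := isCompact_iff_compactSpace.1 hc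
      have : QuasiCompact j := (quasiCompact_iff_compactSpace j).2 inferInstance
      have : IsSeparated j := inferInstanceAs (IsSeparated (Oo.ι ≫ D''.obj.hom))
      have : LocallyQuasiFinite j := inferInstanceAs (LocallyQuasiFinite (Oo.ι ≫ D''.obj.hom))
      have : LocallyOfFiniteType j := inferInstanceAs (LocallyOfFiniteType (Oo.ι ≫ D''.obj.hom))
      obtain ⟨U, q, H, -, -⟩ := exists_isDescended (subDatum D'' hinv)
        (fpqcCover_of_quasiCompact p') (isQuasiAffine_of_lqf j)
      exact ⟨U, q, H⟩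
    obtain ⟨q, hq⟩ := exists_isDescended_of_restrict (D := piece D W.1) p' r rfl
      (fpqcCover_of_quasiCompact p') H'
    exact ⟨U, q, hq⟩
  choose UW qW HW using hex
  obtain ⟨U, q, H, -⟩ := exists_isDescended_of_pieces D hp UW qW HW
  exact ⟨U, q, H⟩

end Groth.Agent.Lib.FFDesc
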