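import Mathlib.AlgebraicGeometry.Morphisms.UniversallyOpen
import Groth.Agent.Lib.FFDesc.Points

/-!
# Descent data on open subschemes are effective (FFDesc, part 8)
-/

universe u

open CategoryTheory CategoryTheory.Limits AlgebraicGeometry

namespace Groth.Agent.Lib.FFDesc

variable {X S : Scheme.{u}} {p : X ⟶ S}

/-- A descent datum whose scheme is an open subscheme is effective along fppf covers. -/
theorem exists_isDescended_of_isOpenImmersion [Flat p] [Surjective p]
    [LocallyOfFinitePresentation p] (D : Desc.SchDD p) [IsOpenImmersion D.obj.hom] :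
    ∃ (U : Over S) (q : D.obj.left ⟶ U.left), IsDescended D U q ∧ IsOpenImmersion U.hom := by
  let h := D.obj.hom
  let W : S.Opens := ⟨p '' Set.range h, p.isOpenMap _ h.isOpenEmbedding.isOpen_range⟩
  have hsat : ∀ x : X, p x ∈ W → x ∈ Set.range h := by
    rintro x ⟨_, ⟨v, rfl⟩, hv⟩
    obtain ⟨t, -, ht₂⟩ := Scheme.Pullback.exists_preimage_pullback (f := h ≫ p) (g := p) v x
      (by simpa using hv)
    refine ⟨act D t, ?_⟩
    rw [← Scheme.Hom.comp_apply, show act D ≫ h = pr₁ D from act_hom D]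
    exact ht₂
  have hrange : Set.range (h ≫ p) ⊆ Set.range W.ι := by
    rw [Scheme.Opens.range_ι]
    rintro _ ⟨v, rfl⟩
    exact ⟨h v, ⟨v, rfl⟩, rfl⟩
  let q : D.obj.left ⟶ W := IsOpenImmersion.lift W.ι (h ≫ p) hrange
  have hq : q ≫ W.ι = h ≫ p := IsOpenImmersion.lift_fac _ _ _
  refine ⟨Over.mk W.ι, q, ⟨(IsOpenImmersion.isPullback _ _ _ _ hq.symm ?_).flip, ?_⟩,
    inferInstanceAs (IsOpenImmersion W.ι)⟩
  · ext x
    simp only [Scheme.Hom.coe_opensRange, Scheme.Opens.opensRange_ι]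
    exact ⟨hsat x, fun hx ↦ ⟨x, hx, rfl⟩⟩
  · rw [← cancel_mono W.ι, Category.assoc, Category.assoc, hq, act_hom_assoc]
    exact pullback.condition

end Groth.Agent.Lib.FFDesc
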