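import Groth.Agent.Lib.GrpSch.ClosedDescent
import Groth.Agent.Lib.TorsorSch.NormalBase
import Mathlib.CategoryTheory.Subobject.Basic
import Mathlib.AlgebraicGeometry.Morphisms.FlatDescent

/-!
# Descent of subobjects along fpqc covers
-/

set_option autoImplicit false
universe u
open CategoryTheory CategoryTheory.Limits AlgebraicGeometry

namespace Groth.Agent.Lib.FFDesc.SubobjDesc

variable {X X' : Scheme.{u}}

theorem pullback_factors_iff {T : Scheme.{u}} (f : X ⟶ X') (y : Subobject X') (t : T ⟶ X) :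
    (∃ v, v ≫ ((Subobject.pullback f).obj y).arrow = t) ↔ ∃ w, w ≫ y.arrow = t ≫ f := by
  have h := Subobject.isPullback f y
  constructor
  · rintro ⟨v, rfl⟩
    exact ⟨v ≫ Subobject.pullbackπ f y, by rw [Category.assoc, h.w, Category.assoc]⟩
  · rintro ⟨w, hw⟩
    exact ⟨h.lift w t hw, h.lift_snd _ _ _⟩

theorem eq_of_pullback_eq (π : X ⟶ X') [Flat π] [Surjective π] [QuasiCompact π] {a b : Subobject X'}
    (h : (Subobject.pullback π).obj a = (Subobject.pullback π).obj b) : a = b := by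
  have key : ∀ {a b : Subobject X'}, (Subobject.pullback π).obj a = (Subobject.pullback π).obj b → a ≤ b := by
    intro a b h
    have hq : FFDesc.fpqcCover (Subobject.pullbackπ π a) :=
      MorphismProperty.of_isPullback (Subobject.isPullback π a).flip
        (FFDesc.fpqcCover_of_quasiCompact π)
    obtain ⟨w, hw⟩ := GrpSch.exists_factor_mono_of_cover _ hq a.arrow b.arrow (by
      refine (pullback_factors_iff π b ((Subobject.pullback π).obj a).arrow).1 ?_ |>.imp fun w hw => ?_
      · exact ⟨Subobject.ofLE _ _ h.le, Subobject.ofLE_arrow _⟩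
      · rw [hw, (Subobject.isPullback π a).w])
    exact Subobject.le_of_comm w hw
  exact le_antisymm (key h) (key h.symm)

theorem pullback_stable (π : X ⟶ X') (y : Subobject X') :
    (Subobject.pullback (pullback.fst π π)).obj ((Subobject.pullback π).obj y) =
      (Subobject.pullback (pullback.snd π π)).obj ((Subobject.pullback π).obj y) := by
  rw [← Subobject.pullback_comp, ← Subobject.pullback_comp, pullback.condition]

theorem exists_of_stable (π : X ⟶ X') {T : Scheme.{u}} {Y : Subobject X}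
    (hY : (Subobject.pullback (pullback.fst π π)).obj Y = (Subobject.pullback (pullback.snd π π)).obj Y)
    (x₀ x₁ : T ⟶ X) (e : x₀ ≫ π = x₁ ≫ π) (h : ∃ v, v ≫ Y.arrow = x₀) : ∃ v, v ≫ Y.arrow = x₁ := by
  obtain ⟨v, hv⟩ := h
  have h1 := (pullback_factors_iff (pullback.fst π π) Y (pullback.lift x₀ x₁ e)).2
    ⟨v, by rw [pullback.lift_fst, hv]⟩
  rw [hY] at h1
  obtain ⟨w, hw⟩ := (pullback_factors_iff (pullback.snd π π) Y (pullback.lift x₀ x₁ e)).1 h1
  exact ⟨w, by rw [hw, pullback.lift_snd]⟩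

theorem exists_closed (π : X ⟶ X') [Flat π] [Surjective π] [QuasiCompact π] (Y : Subobject X)
    [IsClosedImmersion Y.arrow]
    (hY : (Subobject.pullback (pullback.fst π π)).obj Y = (Subobject.pullback (pullback.snd π π)).obj Y) :
    ∃ y : Subobject X', IsClosedImmersion y.arrow ∧ (Subobject.pullback π).obj y = Y := by
  let i := Y.arrow
  have hsub : ∀ {T : Scheme.{u}} (x : T ⟶ X), Subsingleton (Desc.Lifts (Over.mk i) x) := fun x =>
    ⟨fun v w => Subtype.ext ((cancel_mono i).1 (v.2.trans w.2.symm))⟩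
  have h := fun {T : Scheme.{u}} (x₀ x₁ : T ⟶ X) e hh => exists_of_stable π hY x₀ x₁ e hh
  let D : Desc.SchDD π :=
    { obj := Over.mk i
      φ := fun T x₀ x₁ e =>
        { toFun := fun v => ⟨(h x₀ x₁ e ⟨v.1, v.2⟩).choose, (h x₀ x₁ e ⟨v.1, v.2⟩).choose_spec⟩
          invFun := fun v => ⟨(h x₁ x₀ e.symm ⟨v.1, v.2⟩).choose, (h x₁ x₀ e.symm ⟨v.1, v.2⟩).choose_spec⟩
          left_inv := fun v => (hsub x₀).elim _ _
          right_inv := fun v => (hsub x₁).elim _ _ }
      φ_natural := fun T T' g x₀ x₁ e e' v v' _ => (cancel_mono i).1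
        (((h _ _ e' ⟨v'.1, v'.2⟩).choose_spec).trans
          (((Category.assoc _ _ _).trans (congrArg (g ≫ ·) (h x₀ x₁ e ⟨v.1, v.2⟩).choose_spec)).symm))
      φ_self := fun T x v => (hsub x).elim _ _
      φ_comp := fun T x₀ x₁ x₂ _ _ v => (hsub x₂).elim _ _ }
  have hD : Mor2.IsQuasiAffine D.obj.hom := ⟨inferInstanceAs (QuasiCompact i), fun V hV => by
    have : IsAffine (i ⁻¹ᵁ V : Scheme.{u}) := hV.preimage i
    change Scheme.IsQuasiAffine (i ⁻¹ᵁ V : Scheme.{u})
    infer_instance⟩
  obtain ⟨W, q, hq, -, -⟩ := FFDesc.exists_isDescended D (FFDesc.fpqcCover_of_quasiCompact π) hD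
  have hW : IsClosedImmersion W.hom :=
    MorphismProperty.DescendsAlong.of_isPullback
      (P := @IsClosedImmersion.{u}) (Q := @Surjective ⊓ @Flat ⊓ @QuasiCompact)
      hq.isPullback ⟨⟨‹_›, ‹_›⟩, ‹_›⟩ ‹IsClosedImmersion Y.arrow›
  refine ⟨Subobject.mk W.hom, ?_, ?_⟩
  · rw [← Subobject.underlyingIso_hom_comp_eq_mk]; infer_instance
  · rw [Subobject.pullback_obj_mk (j := i) hq.isPullback.flip]
    exact Subobject.mk_arrow Y

theorem exists_open (π : X ⟶ X') [Flat π] [Surjective π] [QuasiCompact π] (Y : Subobject X)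
    [IsOpenImmersion Y.arrow]
    (hY : (Subobject.pullback (pullback.fst π π)).obj Y = (Subobject.pullback (pullback.snd π π)).obj Y) :
    ∃ y : Subobject X', IsOpenImmersion y.arrow ∧ (Subobject.pullback π).obj y = Y := by
  have hst : π ⁻¹' (π '' Set.range Y.arrow) = Set.range Y.arrow := by
    refine Set.Subset.antisymm ?_ (Set.subset_preimage_image _ _)
    rintro b ⟨a, ⟨w, rfl⟩, hab⟩
    obtain ⟨t, ht1, ht2⟩ := Scheme.Pullback.exists_preimage_pullback (f := π) (g := π) _ b hab
    have h2 : Subobject.ofLE _ _ hY.le ≫ Subobject.pullbackπ (pullback.snd π π) Y ≫ Y.arrow =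
        ((Subobject.pullback (pullback.fst π π)).obj Y).arrow ≫ pullback.snd π π := by
      rw [(Subobject.isPullback (pullback.snd π π) Y).w, Subobject.ofLE_arrow_assoc]
    obtain ⟨v, -, hv⟩ := Scheme.exists_preimage_of_isPullback
      (Subobject.isPullback (pullback.fst π π) Y) w t ht1.symm
    refine ⟨(Subobject.ofLE _ _ hY.le ≫ Subobject.pullbackπ (pullback.snd π π) Y) v, ?_⟩
    rw [← Scheme.Hom.comp_apply, Category.assoc, h2, Scheme.Hom.comp_apply, hv, ht2]
  let U : X'.Opens := ⟨π '' Set.range Y.arrow, by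
    rw [← (Flat.isQuotientMap_of_surjective π).isOpen_preimage, hst]
    exact Y.arrow.isOpenEmbedding.isOpen_range⟩
  refine ⟨Subobject.mk U.ι, ?_, ?_⟩
  · rw [← Subobject.underlyingIso_hom_comp_eq_mk]; infer_instance
  · rw [Subobject.pullback_obj_mk (isPullback_morphismRestrict π U)]
    have hr : Set.range (π ⁻¹ᵁ U).ι = Set.range Y.arrow := by
      rw [Scheme.Opens.range_ι]; exact hst
    exact Subobject.mk_eq_of_comm _ (IsOpenImmersion.isoOfRangeEq _ _ hr)
      (IsOpenImmersion.isoOfRangeEq_hom_fac _ _ hr)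

end Groth.Agent.Lib.FFDesc.SubobjDesc
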